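import Cfsg.Agent.S0801
import Cfsg.Agent.Lib.SL2.Overgroup

/-!
A subgroup of `SL₂` with a large upper unipotent part of full field degree and one lower unipotent element.
-/

set_option autoImplicit false

namespace Cfsg.Agent.Lib.SubfieldMax

open Cfsg.Agent.Lib.SL2

variable {F : Type*} [Field F] [Fintype F]

theorem subfield_eq_top_of_prime_degree (K L : Subfield F) {r : ℕ} (hr : r.Prime)
    (hcard : Nat.card F = Nat.card K ^ r) (hle : K ≤ L) (hne : ¬ L ≤ K) : L = ⊤ := by
  haveI : Module.Finite K F := Module.Finite.of_finite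
  have hdim : Module.finrank K F = r := by
    have h := Module.natCard_eq_pow_finrank (K := K) (V := F)
    rw [hcard] at h
    exact (Nat.pow_right_injective Finite.one_lt_card h).symm
  let A : Subalgebra K F := { L.toSubring.toSubsemiring with algebraMap_mem' := fun a => hle a.2 }
  rcases (Subalgebra.isSimpleOrder_of_finrank_prime K F (hdim ▸ hr)).eq_bot_or_eq_top A with e | e
  · refine absurd (fun x hx => ?_) hne
    have hxA : x ∈ (⊥ : Subalgebra K F) := e ▸ (hx : x ∈ A)
    obtain ⟨a, ha⟩ := Algebra.mem_bot.mp hxA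
    exact ha ▸ a.2
  · exact top_le_iff.mp fun x _ => (e ▸ Algebra.mem_top : x ∈ A)

theorem comm_invol_count : ∀ a b : Equiv.Perm (Fin 4), a * a = 1 → b * b = 1 → a * b = b * a →
    a ≠ 1 → b ≠ 1 → a ≠ b →
    (Finset.univ.filter fun c : Equiv.Perm (Fin 4) => c * c = 1 ∧ a * c = c * a ∧ b * c = c * b).card ≤ 4 := by
  decide +kernel

/-- Pairwise commuting elements of square one in the symmetric group of degree four number at most four. -/
theorem klein_bound (s : Finset (Equiv.Perm (Fin 4))) (h : ∀ a ∈ s, ∀ b ∈ s, a * b = b * a ∧ a * a = 1) :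
    s.card ≤ 4 := by
  by_contra hc
  obtain ⟨a, ha, hane⟩ := Finset.exists_mem_ne (s := s) (by omega) 1
  obtain ⟨b, hb, hbne⟩ : ∃ b ∈ s, b ∉ ({1, a} : Finset _) :=
    Finset.exists_mem_notMem_of_card_lt_card (by
      have := Finset.card_le_two (a := (1 : Equiv.Perm (Fin 4))) (b := a); omega)
  simp only [Finset.mem_insert, Finset.mem_singleton, not_or] at hbne
  have := comm_invol_count a b (h a ha a ha).2 (h b hb b hb).2 (h a ha b hb).1 hane hbne.1 (Ne.symm hbne.2)
  have hle := Finset.card_le_card (s := s) (t := Finset.univ.filter fun c : Equiv.Perm (Fin 4) =>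
    c * c = 1 ∧ a * c = c * a ∧ b * c = c * b) fun c hc' =>
      Finset.mem_filter.mpr ⟨Finset.mem_univ _, (h c hc' c hc').2, (h a ha c hc').1, (h b hb c hc').1⟩
  omega

theorem proj_eq_top {K : Subfield F} {r : ℕ} (hr : r.Prime) (hcard : Nat.card F = Nat.card K ^ r)
    (S : Subgroup (SLtwo F)) {γ b₁ b₂ : F} (hγ : γ ≠ 0) (hb₁ : b₁ ≠ 0) (hirr : b₂ / b₁ ∉ K)
    (hl : lower γ ∈ S) (h1 : ∀ k : K, upper ((k : F) * b₁) ∈ S) (h2 : upper b₂ ∈ S)
    (hbig : 8 ≤ Nat.card {b : F // upper b ∈ S}) : S.map proj = ⊤ := by
  classical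
  obtain ⟨p, hp, hpc⟩ : ∃ p, p.Prime ∧ CharP F p :=
    ⟨ringChar F, CharP.char_is_prime F _, ringChar.charP F⟩
  haveI : Fact p.Prime := ⟨hp⟩
  obtain ⟨n, -, hn⟩ := FiniteField.card F p
  set H := S.map proj with hH
  have hup : ∀ b, upper b ∈ S → proj (upper b) ∈ H := fun b hb => ⟨_, hb, rfl⟩
  have hb₁S : upper b₁ ∈ S := by simpa using h1 1
  have ha : proj (lower γ) ∈ H := ⟨_, hl, rfl⟩
  have hb : proj (upper b₁) ∈ H := hup _ hb₁S
  -- the upper unipotent part
  have hU : 8 ≤ Nat.card (upperSet H) :=
    hbig.trans (Nat.card_le_card_of_injective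
      (fun b : {b : F // upper b ∈ S} => (⟨b.1, hup _ b.2⟩ : upperSet H))
      fun a b e => Subtype.ext (congrArg (fun x : upperSet H => (x : F)) e))
  have hUH : Nat.card (upperSet H) ∣ Nat.card H := by
    have e : Nat.card (AddSubgroup.toSubgroup (upperSet H)) = Nat.card (upperSet H) := rfl
    rw [← e, ← Subgroup.card_map_of_injective (f := proj.comp (upperHom (F := F))) (fun a b h => by
      exact Multiplicative.toAdd.injective (proj_upper_injective h))]
    refine Subgroup.card_dvd_of_le ?_
    rintro _ ⟨a, ha', rfl⟩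
    exact ha'
  have hUp : ∃ k, Nat.card (upperSet H) = p ^ k := by
    have h := AddSubgroup.card_addSubgroup_dvd_card (upperSet H)
    rw [Nat.card_eq_fintype_card (α := F), hn] at h
    obtain ⟨k, -, hk⟩ := (Nat.dvd_prime_pow hp).mp h
    exact ⟨k, hk⟩
  have hap : proj (lower γ) ^ p = 1 := by
    rw [← map_pow, pow_char_of_tr_two p (by simp [tr]; norm_num), map_one]
  have hbp : proj (upper b₁) ^ p = 1 := by
    rw [← map_pow, pow_char_of_tr_two p (by simp [tr]; norm_num), map_one]
  have hab : proj (lower γ) * proj (upper b₁) ≠ proj (upper b₁) * proj (lower γ) := by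
    rw [← map_mul, ← map_mul]
    intro e
    have hprod : b₁ * γ ≠ 0 := mul_ne_zero hb₁ hγ
    rcases proj_eq_proj_iff.1 e with e | e
    · have h00 := congrArg (fun g : SLtwo F => g 0 0) e
      simp [Matrix.mul_apply, Fin.sum_univ_two] at h00
      exact hprod (by rcases h00 with h | h <;> simp [h])
    · have h00 := congrArg (fun g : SLtwo F => g 0 0) e
      have h10 := congrArg (fun g : SLtwo F => g 1 0) e
      simp [Matrix.mul_apply, Fin.sum_univ_two] at h00 h10
      have h2 : (2 : F) = 0 :=
        (mul_eq_zero.1 (show (2 : F) * γ = 0 by linear_combination h10)).resolve_right hγ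
      exact hprod (by linear_combination h00 - h2)
  rcases dickson p H with h | ⟨A, hA, -, h⟩ | ⟨x, hx, hx1, h⟩ | h | ⟨L, δ, -, h⟩
  · exact absurd (by rw [h, Subgroup.mem_bot] at ha hb; rw [ha, hb]) hab
  · exfalso
    have hdvd : Nat.card H ∣ 2 * Nat.card A := by
      rcases h with ⟨-, h⟩ | ⟨⟨e⟩⟩
      · rw [h]; exact dvd_mul_left _ _
      · rw [Nat.card_congr e.toEquiv, DihedralGroup.nat_card]
    obtain ⟨k, hk⟩ := hUp
    have hc : Nat.Coprime (p ^ k) (Nat.card A) := (hA.coprime p).symm.pow_left k
    have := Nat.le_of_dvd two_pos (hc.dvd_of_dvd_mul_right (hk ▸ hUH.trans hdvd))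
    omega
  · exact absurd (torus_comm hx1 (mem_torus_of_mem_normalizer p hx hx1 (h ha) hap)
      (mem_torus_of_mem_normalizer p hx hx1 (h hb) hbp)) hab
  · exfalso
    have h8 := hU.trans (Nat.le_of_dvd Nat.card_pos hUH)
    obtain ⟨k, hk⟩ := hUp
    have hpk : ∀ d : ℕ, d.Prime → d ∣ Nat.card (upperSet H) → d = p := fun d hd hdd =>
      (Nat.prime_dvd_prime_iff_eq hd hp).mp (hd.dvd_of_dvd_pow (hk ▸ hdd))
    rcases h with ⟨⟨e⟩⟩ | ⟨⟨e⟩⟩ | ⟨⟨e⟩⟩
    · have hH : Nat.card H = 12 := by rw [Nat.card_congr e.toEquiv, nat_card_alternatingGroup]; simp; rfl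
      rw [hH] at hUH
      have := Nat.le_of_dvd (by norm_num) hUH
      generalize Nat.card (upperSet H) = u at *
      interval_cases u <;> try omega
      exact absurd ((hpk 2 Nat.prime_two (by norm_num)).trans (hpk 3 Nat.prime_three (by norm_num)).symm) (by norm_num)
    · have hH : Nat.card H = 24 := by rw [Nat.card_congr e.toEquiv, Nat.card_perm]; simp; rfl
      rw [hH] at hUH
      have := Nat.le_of_dvd (by norm_num) hUH
      by_cases h8' : Nat.card (upperSet H) = 8
      · -- no elementary abelian subgroup of order eight in the symmetric group of degree four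
        have hp2 : p = 2 := (hpk 2 Nat.prime_two (by rw [h8']; norm_num)).symm
        subst hp2
        let f : upperSet H → Equiv.Perm (Fin 4) := fun x => e ⟨proj (upper x.1), x.2⟩
        have hf : Function.Injective f := fun x y hxy => Subtype.ext
          (proj_upper_injective (congrArg Subtype.val (e.injective hxy)))
        have hadd : ∀ x y, f (x + y) = f x * f y := fun x y => by
          rw [← map_mul]
          refine congrArg e (Subtype.ext ?_)
          show proj (upper ((x : F) + y)) = proj (upper (x : F)) * proj (upper (y : F))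
          rw [← map_mul, upper_mul]
        have hset : ∀ a ∈ Finset.univ.image f, ∀ b ∈ Finset.univ.image f, a * b = b * a ∧ a * a = 1 := by
          intro a ha b hb
          simp only [Finset.mem_image, Finset.mem_univ, true_and] at ha hb
          obtain ⟨x, rfl⟩ := ha
          obtain ⟨y, rfl⟩ := hb
          refine ⟨by rw [← hadd, ← hadd, add_comm], ?_⟩
          rw [← hadd, show x + x = 0 from Subtype.ext (CharTwo.add_self_eq_zero (x : F))]
          have h0 := hadd 0 0
          rw [add_zero] at h0
          exact left_eq_mul.mp h0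
        have hcard : (Finset.univ.image f).card = 8 := by
          rw [Finset.card_image_of_injective _ hf, Finset.card_univ, ← Nat.card_eq_fintype_card, h8']
        have := klein_bound (Finset.univ.image f) hset
        omega
      · generalize Nat.card (upperSet H) = u at *
        interval_cases u <;> try omega
        all_goals exact absurd ((hpk 2 Nat.prime_two (by norm_num)).trans
          (hpk 3 Nat.prime_three (by norm_num)).symm) (by norm_num)
    · have hH : Nat.card H = 60 := by rw [Nat.card_congr e.toEquiv, nat_card_alternatingGroup]; simp; rfl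
      rw [hH] at hUH
      have := Nat.le_of_dvd (by norm_num) hUH
      have h23 : (2 ∣ Nat.card (upperSet H) → 2 = p) ∧ (3 ∣ Nat.card (upperSet H) → 3 = p) ∧
          (5 ∣ Nat.card (upperSet H) → 5 = p) :=
        ⟨hpk 2 Nat.prime_two, hpk 3 Nat.prime_three, hpk 5 Nat.prime_five⟩
      generalize Nat.card (upperSet H) = u at *
      interval_cases u <;> omega
  · have hle : H.map Matrix.ProjectiveSpecialLinearGroup.toPGL ≤
        (glMap L).range.map (MulAut.conj δ).toMonoidHom := by
      rcases h with h | h
      · exact h.le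
      · exact h.le.trans (Subgroup.map_mono (slMap_le_glMap L))
    have hγb : ∀ b, upper b ∈ S → γ * b ∈ L := by
      have hf : ∀ b, upper b ∈ S → (2 + γ * b) ^ 2 ∈ L := by
        intro b hb
        have h3 := Cfsg.Agent.S0801.tr_sq_mem hle (g := lower γ * upper b)
          (by rw [map_mul]; exact H.mul_mem ha (hup b hb))
        convert h3 using 1
        simp [tr, Matrix.mul_apply, Fin.sum_univ_two]; ring
      intro b hb
      by_cases h2 : (2 : F) = 0
      · haveI : CharP F 2 := CharTwo.of_one_ne_zero_of_two_eq_zero one_ne_zero h2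
        have h3 := hf b hb
        rw [h2, zero_add] at h3
        haveI : Fintype L := Fintype.ofFinite L
        haveI : CharP L 2 := CharP.subring F 2 L.toSubring
        obtain ⟨y, hy⟩ := FiniteField.isSquare_of_char_two (ringChar.eq L 2) (⟨_, h3⟩ : L)
        have hy' : (γ * b) ^ 2 = (y : F) ^ 2 := by
          rw [sq (y : F)]; exact congrArg Subtype.val hy
        rw [CharTwo.sq_inj.mp hy']
        exact y.2
      · have hbb : upper (b + b) ∈ S := by rw [← upper_mul]; exact S.mul_mem hb hb
        have h4 : (4 : F) ∈ L := ofNat_mem L 4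
        have hsq : (γ * b) ^ 2 ∈ L := by
          rw [show (γ * b) ^ 2 = ((2 + γ * (b + b)) ^ 2 - ((2 + γ * b) ^ 2 + (2 + γ * b) ^ 2) + 4) / 2 by
            field_simp; ring]
          exact div_mem (add_mem (sub_mem (hf _ hbb) (add_mem (hf b hb) (hf b hb))) h4) (ofNat_mem L 2)
        have h40 : (4 : F) ≠ 0 := by
          rw [show (4 : F) = 2 * 2 by norm_num]; exact mul_ne_zero h2 h2
        rw [show γ * b = ((2 + γ * b) ^ 2 - (γ * b) ^ 2 - 4) / 4 by field_simp; ring]
        exact div_mem (sub_mem (sub_mem (hf b hb) hsq) h4) h4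
    have hne0 : γ * b₁ ≠ 0 := mul_ne_zero hγ hb₁
    have hKL : K ≤ L := fun k hk => by
      have e : k = γ * ((⟨k, hk⟩ : K) * b₁) / (γ * b₁) := by field_simp
      rw [e]
      exact div_mem (hγb _ (h1 _)) (hγb _ hb₁S)
    have hLK : ¬ L ≤ K := fun hle' => hirr (hle' (by
      rw [show b₂ / b₁ = γ * b₂ / (γ * b₁) by field_simp]
      exact div_mem (hγb _ h2) (hγb _ hb₁S)))
    have hL := subfield_eq_top_of_prime_degree K L hr hcard hKL hLK
    haveI : Fintype L := Fintype.ofFinite L
    have hLc : Fintype.card L = Fintype.card F := by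
      rw [← Nat.card_eq_fintype_card, ← Nat.card_eq_fintype_card, hL]
      exact Nat.card_congr (Equiv.subtypeUnivEquiv fun x => Subfield.mem_top x)
    refine Subgroup.eq_top_of_le_card _ ?_
    rw [← Subgroup.card_map_of_injective (K := H)
      (Matrix.ProjectiveSpecialLinearGroup.toPGL_injective (n := Fin 2) (R := F))]
    rcases h with h | h
    · rw [h, Subgroup.card_map_of_injective (MulEquiv.injective _), card_glMap_range, card_PSL, hLc]
      exact Nat.div_le_self _ _
    · rw [h, Subgroup.card_map_of_injective (MulEquiv.injective _),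
        Nat.card_congr (rangeSlMapEquiv L).toEquiv, card_PSL, card_PSL, hLc]

end Cfsg.Agent.Lib.SubfieldMax
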