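import Cfsg.Agent.Lib.SubfieldMax.LinearTools
import Cfsg.Agent.Lib.SubfieldMax.SL2Gen

/-!
The subfield subgroup of a special linear group over an extension of prime degree is maximal.
-/

set_option autoImplicit false

namespace Cfsg.Agent.Lib.SubfieldMax

open Matrix Cfsg.Agent.Lib

variable {ι : Type} [Fintype ι] [DecidableEq ι] {F : Type*} [Field F] [Finite F] {K : Subfield F}
  {P : GL ι F} {M : Subgroup (GL ι F)}

/-- Scalars whose rational transvections lie in `M`. -/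
def GoodL (K : Subfield F) (P : GL ι F) (M : Subgroup (GL ι F)) (c : F) : Prop :=
  ∀ v a : ι → K, a ⬝ᵥ v = 0 → InTr M (ratVec K P v) (c • ratCov K P a)

/-- A point with proportional rational coordinates. -/
def RatPt (K : Subfield F) (P : GL ι F) (x : ι → F) : Prop :=
  ∃ (l : F) (u : ι → K), x = l • ratVec K P u

omit [Finite F] in
theorem ratTr_mem (v a : ι → K) (h : a ⬝ᵥ v = 0) :
    FormMax.Tr (ratVec K P v) (ratCov K P a) (ratCov_dot_eq_zero h)
      ∈ Cfsg.Geo.subfieldSubgroup K P ⊓ Cfsg.Geo.specialLinear ι F :=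
  ⟨mem_subfield_of_maps one_ne_zero fun u => ⟨u + (a ⬝ᵥ u) • v, by
    rw [FormMax.Tr_mulVec, ratCov_dot, one_smul, ratVec_add, ratVec_smul]⟩, FormMax.Tr_mem_SL _ _ _⟩

variable (hn : 4 ≤ Fintype.card ι)
  (hHM : Cfsg.Geo.subfieldSubgroup K P ⊓ Cfsg.Geo.specialLinear ι F ≤ M)

include hHM in
omit [Finite F] in
theorem inTr_rat (v a : ι → K) (h : a ⬝ᵥ v = 0) : InTr M (ratVec K P v) (ratCov K P a) :=
  ⟨_, hHM (ratTr_mem v a h)⟩

include hHM in
omit [Finite F] in
theorem goodL_coe (k : K) : GoodL K P M (k : F) := fun v a h => by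
  rw [← ratCov_smul]
  exact inTr_rat hHM v (k • a) (by rw [smul_dotProduct, h, smul_zero])

omit [Finite F] in
theorem goodL_add {c d : F} (hc : GoodL K P M c) (hd : GoodL K P M d) : GoodL K P M (c + d) :=
  fun v a h => by rw [add_smul]; exact (hc v a h).add (hd v a h)

include hn in
omit [Finite F] in
theorem goodL_mul {c d : F} (hc : GoodL K P M c) (hd : GoodL K P M d) : GoodL K P M (c * d) := by
  intro v a hav
  by_cases hv : v = 0
  · rw [hv, ratVec_zero]; exact InTr.zero_left _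
  obtain ⟨w, hw0, hw⟩ := exists_dot_perp ![a] (Submodule.span K {v}) (by rw [finrank_span_singleton hv]; omega)
  have haw : a ⬝ᵥ w = 0 := hw0 0
  obtain ⟨b, hb⟩ := exists_dot_eq (pair_independent hv hw) ![0, 1]
  have hbv : b ⬝ᵥ v = 0 := hb 0
  have hbw : b ⬝ᵥ w = 1 := hb 1
  refine ((hc v b hbv).commAxis (hd w a haw) ?_).congr rfl ?_
  · rw [smul_dotProduct, ratCov_dot_eq_zero hav, smul_zero]
  · rw [smul_dotProduct, ratCov_dot, hbw, smul_smul, smul_eq_mul]
    simp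

include hn hHM in
omit [Finite F] in
theorem inTr_axis {c : F} {v a : ι → K} (ha : a ≠ 0) (hav : a ⬝ᵥ v = 0)
    (h : InTr M (ratVec K P v) (c • ratCov K P a)) :
    ∀ b : ι → K, b ⬝ᵥ v = 0 → InTr M (ratVec K P v) (c • ratCov K P b) := by
  have key : ∀ b : ι → K, b ∉ Submodule.span K {a} → b ⬝ᵥ v = 0 → InTr M (ratVec K P v) (c • ratCov K P b) := by
    intro b hb hbv
    obtain ⟨w, hw⟩ := exists_dot_eq (pair_independent ha hb) ![1, 0]
    have haw : a ⬝ᵥ w = 1 := by rw [dotProduct_comm]; exact hw 0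
    have hbw : b ⬝ᵥ w = 0 := by rw [dotProduct_comm]; exact hw 1
    refine (h.commAxis (inTr_rat hHM w b hbw) (ratCov_dot_eq_zero hbv)).congr rfl ?_
    rw [smul_dotProduct, ratCov_dot, haw, smul_eq_mul]
    simp
  intro b hbv
  by_cases hb : b ∈ Submodule.span K {a}
  · obtain ⟨a', ha'0, ha'⟩ := exists_dot_perp ![v] (Submodule.span K {a})
      (by rw [finrank_span_singleton ha]; omega)
    have ha'v : a' ⬝ᵥ v = 0 := by rw [dotProduct_comm]; exact ha'0 0
    refine ((key (b + a') (fun hs => ha' ?_) (by rw [add_dotProduct, hbv, ha'v, add_zero])).sub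
      (key a' ha' ha'v)).congr rfl ?_
    · simpa using Submodule.sub_mem _ hs hb
    · rw [← smul_sub, ← ratCov_sub, add_sub_cancel_right]
  · exact key b hb hbv

include hn hHM in
omit [Finite F] in
theorem goodL_of_pair {c : F} {v₀ a₀ : ι → K} (hv₀ : v₀ ≠ 0) (ha₀ : a₀ ≠ 0) (h0 : a₀ ⬝ᵥ v₀ = 0)
    (h : InTr M (ratVec K P v₀) (c • ratCov K P a₀)) : GoodL K P M c := by
  have move : ∀ v w : ι → K, v ≠ 0 → w ∉ Submodule.span K {v} →
      (∀ b : ι → K, b ⬝ᵥ v = 0 → InTr M (ratVec K P v) (c • ratCov K P b)) →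
      ∀ b : ι → K, b ⬝ᵥ w = 0 → InTr M (ratVec K P w) (c • ratCov K P b) := by
    intro v w hv hw hvall
    obtain ⟨a, ha0, ha⟩ := exists_dot_perp ![v, w] (⊥ : Submodule K (ι → K)) (by rw [finrank_bot]; omega)
    have hav : a ⬝ᵥ v = 0 := by rw [dotProduct_comm]; exact ha0 0
    have haw : a ⬝ᵥ w = 0 := by rw [dotProduct_comm]; exact ha0 1
    obtain ⟨b, hb⟩ := exists_dot_eq (pair_independent hv hw) ![1, 0]
    have hbv : b ⬝ᵥ v = 1 := hb 0
    have hbw : b ⬝ᵥ w = 0 := hb 1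
    refine inTr_axis hn hHM (fun e => ha (by rw [e]; exact zero_mem _)) haw ?_
    refine ((hvall a hav).commCentre (inTr_rat hHM w b hbw) ?_).congr rfl ?_
    · rw [smul_dotProduct, ratCov_dot_eq_zero haw, smul_zero]
    · rw [ratCov_dot, hbv]
      simp
  have h0all := inTr_axis hn hHM ha₀ h0 h
  intro v a hav
  by_cases hv0 : v = 0
  · rw [hv0, ratVec_zero]; exact InTr.zero_left _
  by_cases hv : v ∈ Submodule.span K {v₀}
  · obtain ⟨w, -, hw⟩ := exists_dot_perp ![(0 : ι → K)] (Submodule.span K {v₀})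
      (by rw [finrank_span_singleton hv₀]; omega)
    refine move w v (fun e => hw (by rw [e]; exact zero_mem _)) (fun hmem => hw ?_)
      (move v₀ w hv₀ hw h0all) a hav
    obtain ⟨s, hs⟩ := Submodule.mem_span_singleton.mp hmem
    obtain ⟨t, ht⟩ := Submodule.mem_span_singleton.mp hv
    have hs0 : s ≠ 0 := fun e => hv0 (by rw [← hs, e, zero_smul])
    exact Submodule.mem_span_singleton.mpr ⟨s⁻¹ * t, by rw [mul_smul, ht, ← hs, inv_smul_smul₀ hs0]⟩
  · exact move v₀ v hv₀ hv h0all a hav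

include hn hHM in
theorem goodL_all (r : ℕ) (hr : r.Prime) (hcard : Nat.card F = Nat.card K ^ r) {c : F} (hc : c ∉ K)
    (hgood : GoodL K P M c) (x : F) : GoodL K P M x := by
  let S : Subalgebra K F :=
    { carrier := {x | GoodL K P M x}
      mul_mem' := fun ha hb => goodL_mul hn ha hb
      one_mem' := by simpa using goodL_coe hHM 1
      add_mem' := fun ha hb => goodL_add ha hb
      zero_mem' := by simpa using goodL_coe hHM 0
      algebraMap_mem' := fun a => goodL_coe hHM a }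
  haveI : Module.Finite K F := Module.Finite.of_finite
  have hdim : Module.finrank K F = r := by
    have h := Module.natCard_eq_pow_finrank (K := K) (V := F)
    rw [hcard] at h
    exact (Nat.pow_right_injective Finite.one_lt_card h).symm
  have h := Subalgebra.isSimpleOrder_of_finrank_prime K F (hdim ▸ hr)
  rcases h.eq_bot_or_eq_top S with e | e
  · exfalso
    have hcS : c ∈ (⊥ : Subalgebra K F) := e ▸ (hgood : c ∈ S)
    obtain ⟨a, ha⟩ := Algebra.mem_bot.mp hcS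
    exact hc (ha ▸ a.2)
  · exact (e ▸ Algebra.mem_top : x ∈ S)

omit [Finite F] in
theorem eq_SL_of_goodL (hMS : M ≤ Cfsg.Geo.specialLinear ι F) (h : ∀ c, GoodL K P M c) :
    M = Cfsg.Geo.specialLinear ι F := by
  refine le_antisymm hMS fun g hg => ?_
  let φ : SpecialLinearGroup ι F →* GL ι F :=
    (MulAut.conj P).toMonoidHom.comp SpecialLinearGroup.toGL
  have hK : M.comap φ = ⊤ := by
    refine LinGroup.eq_top_of_transvection_mem _ fun i j hij c => ?_
    have hd : (Pi.single j (1 : K) : ι → K) ⬝ᵥ Pi.single i 1 = 0 := by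
      rw [single_dotProduct, Pi.single_eq_of_ne hij.symm, mul_zero]
    obtain ⟨_, hm⟩ := h c _ _ hd
    show P * SpecialLinearGroup.toGL (SpecialLinearGroup.transvection hij c) * P⁻¹ ∈ M
    have e : SpecialLinearGroup.toGL (SpecialLinearGroup.transvection hij c) =
        FormMax.Tr (Pi.single i (1 : F)) (Pi.single j c) (by
          rw [single_dotProduct, Pi.single_eq_of_ne hij.symm, mul_zero]) := by
      refine FormMax.gl_ext fun x => funext fun k => ?_
      rw [FormMax.Tr_mulVec]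
      show (Matrix.transvection i j c *ᵥ x) k = _
      rw [LinGroup.transvection_mulVec_apply]
      by_cases hk : k = i
      · subst hk; simp [single_dotProduct]
      · simp [hk, single_dotProduct]
    rw [e, FormMax.conj_Tr]
    convert hm using 1
    congr 1
    · rw [ratVec]
      congr 1
      funext k
      rw [Pi.single_apply, Pi.single_apply]
      split_ifs <;> simp
    · rw [ratCov, ← smul_vecMul]
      congr 1
      funext k
      rw [Pi.smul_apply, Pi.single_apply, Pi.single_apply]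
      split_ifs <;> simp
  have hg' : P⁻¹ * g * P ∈ Cfsg.Geo.specialLinear ι F := by
    show Matrix.GeneralLinearGroup.det _ = 1
    rw [map_mul, map_mul, map_inv, mul_right_comm, inv_mul_cancel, one_mul]
    exact hg
  obtain ⟨s, hs⟩ : P⁻¹ * g * P ∈ (SpecialLinearGroup.toGL : SpecialLinearGroup ι F →* GL ι F).range := by
    rw [LinGroup.range_toGL]; exact hg'
  have h2 : φ s ∈ M := (hK ▸ Subgroup.mem_top s : s ∈ M.comap φ)
  have e : φ s = g := by
    show P * SpecialLinearGroup.toGL s * P⁻¹ = g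
    rw [hs]; group
  exact e ▸ h2

include hn hHM in
omit [Finite F] in
theorem exists_goodL_of_annih {x y : ι → F} (hx : ¬ RatPt K P x) (hy : y ≠ 0) (hxy : InTr M x y)
    {b : ι → K} (hb : b ≠ 0) (hbx : ratCov K P b ⬝ᵥ x = 0) : ∃ c, c ∉ K ∧ GoodL K P M c := by
  obtain ⟨μ, hμ, hμm⟩ : ∃ μ : F, μ ≠ 0 ∧ InTr M x (μ • ratCov K P b) := by
    by_cases hex : ∃ r : ι → K, b ⬝ᵥ r = 0 ∧ y ⬝ᵥ ratVec K P r ≠ 0
    · obtain ⟨r, hbr, hyr⟩ := hex
      exact ⟨_, hyr, hxy.commAxis (inTr_rat hHM r b hbr) hbx⟩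
    · push Not at hex
      obtain ⟨r₁, hr₁⟩ := exists_dot_eq (K := K) (u := ![b])
        (linearIndependent_unique_iff.mpr (by simpa using hb)) ![1]
      have hbr₁ : b ⬝ᵥ r₁ = 1 := by rw [dotProduct_comm]; exact hr₁ 0
      have e : y = (y ⬝ᵥ ratVec K P r₁) • ratCov K P b := eq_of_dot_ratVec (K := K) (P := P) fun u => by
        have h1 := hex (u - (b ⬝ᵥ u) • r₁) (by
          rw [dotProduct_sub, dotProduct_smul, hbr₁, smul_eq_mul, mul_one, sub_self])
        rw [ratVec_sub, ratVec_smul, dotProduct_sub, dotProduct_smul, sub_eq_zero, smul_eq_mul] at h1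
        rw [smul_dotProduct, ratCov_dot, h1, smul_eq_mul, mul_comm]
      refine ⟨y ⬝ᵥ ratVec K P r₁, fun e0 => hy ?_, e ▸ hxy⟩
      rw [e, e0, zero_smul]
  by_contra hno
  push Not at hno
  have hK : ∀ a : ι → K, μ * (ratCov K P a ⬝ᵥ x) ∈ K := by
    intro a
    by_contra hc
    obtain ⟨r, hr0, hr⟩ := exists_dot_perp ![b, a] (⊥ : Submodule K (ι → K)) (by rw [finrank_bot]; omega)
    have hbr : b ⬝ᵥ r = 0 := hr0 0
    have har : a ⬝ᵥ r = 0 := hr0 1
    refine hno _ hc (goodL_of_pair hn hHM (fun e => hr (by rw [e]; exact zero_mem _)) hb hbr ?_)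
    refine (hμm.commCentre (inTr_rat hHM r a har) ?_).congr rfl ?_
    · rw [smul_dotProduct, ratCov_dot_eq_zero hbr, smul_zero]
    · rw [smul_smul, mul_comm]
  refine hx ⟨μ⁻¹, fun i => ⟨μ * (ratCov K P (Pi.single i 1) ⬝ᵥ x), hK _⟩, ?_⟩
  have e1 : ∀ i, ratCov K P (Pi.single i 1) ⬝ᵥ x = (((P⁻¹ : GL ι F) : Matrix ι ι F) *ᵥ x) i := fun i => by
    rw [ratCov, ← dotProduct_mulVec,
      show (fun k => ((Pi.single i (1 : K) : ι → K) k : F)) = Pi.single i 1 by
        funext k; rw [Pi.single_apply, Pi.single_apply]; split_ifs <;> simp,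
      single_dotProduct, one_mul]
  rw [ratVec]
  simp only [e1]
  rw [show (fun i => μ * (((P⁻¹ : GL ι F) : Matrix ι ι F) *ᵥ x) i)
      = μ • (((P⁻¹ : GL ι F) : Matrix ι ι F) *ᵥ x) from rfl,
    mulVec_smul, mulVec_mulVec, Units.mul_inv, one_mulVec, inv_smul_smul₀ hμ]

include hn hHM in
theorem exists_annih_centre (r : ℕ) (hr : r.Prime) (hcard : Nat.card F = Nat.card K ^ r) {x y : ι → F}
    (hy : y ≠ 0) (hxy : InTr M x y) (hfree : ∀ b : ι → K, b ≠ 0 → ratCov K P b ⬝ᵥ x ≠ 0) :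
    ∃ (x' y' : ι → F) (b : ι → K), ¬ RatPt K P x' ∧ y' ≠ 0 ∧ InTr M x' y' ∧ b ≠ 0 ∧ ratCov K P b ⬝ᵥ x' = 0 := by
  classical
  haveI : Fintype F := Fintype.ofFinite F
  obtain ⟨r₀, hr₀⟩ : ∃ r₀ : ι → K, y ⬝ᵥ ratVec K P r₀ ≠ 0 := by
    by_contra hall
    push Not at hall
    exact hy (eq_of_dot_ratVec (K := K) (P := P) fun u => by rw [hall u, zero_dotProduct])
  have hr₀0 : r₀ ≠ 0 := fun e => hr₀ (by rw [e, ratVec_zero, dotProduct_zero])
  set ρ := ratVec K P r₀ with hρ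
  obtain ⟨hyx, hTm⟩ := hxy
  -- the action on the line through `ρ` and `x`
  let rep : SL2.SLtwo F → GL ι F → Prop := fun g m =>
    (m : Matrix ι ι F) *ᵥ ρ = g 0 0 • ρ + g 1 0 • x ∧ (m : Matrix ι ι F) *ᵥ x = g 0 1 • ρ + g 1 1 • x
  let S₀ : Submonoid (SL2.SLtwo F) :=
    { carrier := {g | ∃ m ∈ M, rep g m}
      one_mem' := ⟨1, M.one_mem, by simp, by simp⟩
      mul_mem' := by
        rintro g g' ⟨m, hm, h1, h2⟩ ⟨m', hm', h1', h2'⟩
        refine ⟨m * m', M.mul_mem hm hm', ?_, ?_⟩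
        · rw [Units.val_mul, ← mulVec_mulVec, h1', mulVec_add, mulVec_smul, mulVec_smul, h1, h2,
            SL2.mul_00, SL2.mul_10]
          module
        · rw [Units.val_mul, ← mulVec_mulVec, h2', mulVec_add, mulVec_smul, mulVec_smul, h1, h2,
            SL2.mul_01, SL2.mul_11]
          module }
  let S : Subgroup (SL2.SLtwo F) :=
    { S₀ with
      inv_mem' := fun {a} ha => by
        have hpos : 0 < orderOf a := orderOf_pos a
        have h : a⁻¹ = a ^ (orderOf a - 1) := inv_eq_of_mul_eq_one_right (by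
          rw [← pow_succ', Nat.sub_add_cancel hpos, pow_orderOf_eq_one])
        rw [h]
        exact pow_mem (show a ∈ S₀ from ha) _ }
  have hlow : SL2.lower (y ⬝ᵥ ρ) ∈ S := ⟨_, hTm, by
    rw [FormMax.Tr_mulVec]; simp, by rw [FormMax.Tr_mulVec, hyx]; simp⟩
  have hupp : ∀ b : ι → K, b ⬝ᵥ r₀ = 0 → SL2.upper (ratCov K P b ⬝ᵥ x) ∈ S := fun b hb =>
    ⟨_, hHM (ratTr_mem r₀ b hb), by rw [FormMax.Tr_mulVec, ← hρ, hρ, ratCov_dot_eq_zero hb]; simp, by
      rw [FormMax.Tr_mulVec, ← hρ]; simp [add_comm]⟩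
  obtain ⟨b₁, hb₁0, hb₁⟩ := exists_dot_perp ![r₀] (⊥ : Submodule K (ι → K)) (by rw [finrank_bot]; omega)
  have hb₁r : b₁ ⬝ᵥ r₀ = 0 := by rw [dotProduct_comm]; exact hb₁0 0
  have hb₁ne : b₁ ≠ 0 := fun e => hb₁ (by rw [e]; exact zero_mem _)
  obtain ⟨b₂, hb₂0, hb₂⟩ := exists_dot_perp ![r₀] (Submodule.span K {b₁})
    (by rw [finrank_span_singleton hb₁ne]; omega)
  have hb₂r : b₂ ⬝ᵥ r₀ = 0 := by rw [dotProduct_comm]; exact hb₂0 0
  have hirr : (ratCov K P b₂ ⬝ᵥ x) / (ratCov K P b₁ ⬝ᵥ x) ∉ K := fun hk => by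
    set k : K := ⟨_, hk⟩ with hkdef
    have e : (k : F) * (ratCov K P b₁ ⬝ᵥ x) = ratCov K P b₂ ⬝ᵥ x := div_mul_cancel₀ _ (hfree b₁ hb₁ne)
    by_cases h0 : b₂ - k • b₁ = 0
    · exact hb₂ (Submodule.mem_span_singleton.mpr ⟨k, (sub_eq_zero.mp h0).symm⟩)
    · exact hfree _ h0 (by rw [ratCov_sub, ratCov_smul, sub_dotProduct, smul_dotProduct, smul_eq_mul, e, sub_self])
  have hbig : 8 ≤ Nat.card {b : F // SL2.upper b ∈ S} := by
    let L : (ι → K) →ₗ[K] K :=
      { toFun := fun b => b ⬝ᵥ r₀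
        map_add' := fun u v => add_dotProduct _ _ _
        map_smul' := fun k u => smul_dotProduct _ _ _ }
    have h1 := L.finrank_range_add_finrank_ker
    have h2 : Module.finrank K (LinearMap.range L) ≤ 1 := (Submodule.finrank_le _).trans (by simp)
    rw [Module.finrank_fintype_fun_eq_card] at h1
    have h3 : Nat.card (LinearMap.ker L) ≤ Nat.card {b : F // SL2.upper b ∈ S} :=
      Nat.card_le_card_of_injective (fun b => ⟨ratCov K P b.1 ⬝ᵥ x, hupp _ b.2⟩) fun a b e => by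
        by_contra hne
        refine hfree (a.1 - b.1) (sub_ne_zero.mpr fun e' => hne (Subtype.ext e')) ?_
        rw [ratCov_sub, sub_dotProduct, sub_eq_zero]
        exact congrArg Subtype.val e
    have h4 := Module.natCard_eq_pow_finrank (K := K) (V := LinearMap.ker L)
    have h5 : 2 ^ 3 ≤ Nat.card K ^ Module.finrank K (LinearMap.ker L) :=
      (Nat.pow_le_pow_left (Finite.one_lt_card (α := K)) 3).trans (Nat.pow_le_pow_right Nat.card_pos (by omega))
    omega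
  have hproj := proj_eq_top hr hcard S hr₀ (hfree b₁ hb₁ne) hirr hlow
    (fun k => by
      rw [← smul_eq_mul, ← smul_dotProduct, ← ratCov_smul]
      exact hupp _ (by rw [smul_dotProduct, hb₁r, smul_zero]))
    (hupp b₂ hb₂r) hbig
  obtain ⟨c, hc⟩ := exists_dot_eq (K := K) (u := ![r₀]) (linearIndependent_unique_iff.mpr (by simpa using hr₀0)) ![1]
  have hcr : c ⬝ᵥ r₀ = 1 := hc 0
  set μ := -(ratCov K P c ⬝ᵥ x) with hμ
  obtain ⟨s, hs, hse⟩ : SL2.proj (SL2.upper μ) ∈ S.map SL2.proj := hproj ▸ Subgroup.mem_top _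
  obtain ⟨ε, hε, m, hm, hmx⟩ : ∃ ε : F, ε ≠ 0 ∧ ∃ m ∈ M, (m : Matrix ι ι F) *ᵥ x = ε • (μ • ρ + x) := by
    obtain ⟨m, hm, -, h2⟩ := hs
    rcases SL2.proj_eq_proj_iff.1 hse with e | e
    · refine ⟨1, one_ne_zero, m, hm, ?_⟩
      rw [h2, ← e]
      simp
    · refine ⟨-1, by simp, m, hm, ?_⟩
      rw [h2, show s = -SL2.upper μ by rw [e, neg_neg]]
      simp [add_comm]
  have hy' : y ᵥ* ((m⁻¹ : GL ι F) : Matrix ι ι F) ≠ 0 := fun e => hy (by
    have h := congrArg (· ᵥ* (m : Matrix ι ι F)) e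
    simpa [vecMul_vecMul] using h)
  refine ⟨_, _, c, ?_, hy', InTr.conj hm ⟨hyx, hTm⟩, fun e => ?_, ?_⟩
  · rw [hmx]
    rintro ⟨l, u, hlu⟩
    obtain ⟨a, ha0, ha⟩ := exists_dot_perp ![r₀, u] (⊥ : Submodule K (ι → K)) (by rw [finrank_bot]; omega)
    have har : a ⬝ᵥ r₀ = 0 := by rw [dotProduct_comm]; exact ha0 0
    have hau : a ⬝ᵥ u = 0 := by rw [dotProduct_comm]; exact ha0 1
    have h1 := congrArg (fun z => ratCov K P a ⬝ᵥ z) hlu
    simp only [dotProduct_smul, dotProduct_add, hρ, ratCov_dot_eq_zero har, ratCov_dot_eq_zero hau,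
      smul_eq_mul] at h1
    simp only [mul_zero, zero_add] at h1
    exact hfree a (fun e => ha (by rw [e]; exact zero_mem _)) ((mul_eq_zero.mp h1).resolve_left hε)
  · rw [e, zero_dotProduct] at hcr
    exact zero_ne_one hcr
  · rw [hmx, dotProduct_smul, dotProduct_add, dotProduct_smul, hρ, ratCov_dot, hcr, hμ]
    simp

omit [Finite F] in
theorem exists_irrational_image {g : GL ι F} (hg : g ∉ Cfsg.Geo.subfieldSubgroup K P) [Nonempty ι] :
    ∃ u : ι → K, ¬ RatPt K P ((g : Matrix ι ι F) *ᵥ ratVec K P u) := by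
  by_contra hall
  push Not at hall
  choose l v hlv using hall
  have hinj : ∀ z, (g : Matrix ι ι F) *ᵥ z = 0 → z = 0 := fun z hz => by
    simpa [mulVec_mulVec] using congrArg (((g⁻¹ : GL ι F) : Matrix ι ι F) *ᵥ ·) hz
  have hl : ∀ u, u ≠ 0 → l u ≠ 0 := fun u hu e => hu (ratVec_eq_zero.mp (hinj _ (by rw [hlv, e, zero_smul])))
  obtain ⟨i₀⟩ := ‹Nonempty ι›
  set e₀ : ι → K := Pi.single i₀ 1 with he₀
  have he₀ne : e₀ ≠ 0 := by simp [he₀]
  refine hg (mem_subfield_of_maps (hl e₀ he₀ne) fun u => ?_)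
  by_cases hu : u ∈ Submodule.span K {e₀}
  · obtain ⟨k, rfl⟩ := Submodule.mem_span_singleton.mp hu
    exact ⟨k • v e₀, by rw [ratVec_smul, mulVec_smul, hlv, ratVec_smul, smul_comm]⟩
  · have hu0 : u ≠ 0 := fun e => hu (by rw [e]; exact zero_mem _)
    have hv0 : v e₀ ≠ 0 := fun e => he₀ne (ratVec_eq_zero.mp (hinj _ (by rw [hlv, e, ratVec_zero, smul_zero])))
    have hvi : v u ∉ Submodule.span K {v e₀} := fun hmem => by
      obtain ⟨k, hk⟩ := Submodule.mem_span_singleton.mp hmem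
      have e1 : ratVec K P u - (l u * k / l e₀) • ratVec K P e₀ = 0 := hinj _ (by
        rw [mulVec_sub, mulVec_smul, hlv, hlv, ← hk, ratVec_smul, smul_smul, smul_smul,
          div_mul_cancel₀ _ (hl e₀ he₀ne), sub_self])
      obtain ⟨b, hb⟩ := exists_dot_eq (pair_independent he₀ne hu) ![0, 1]
      have hb0 : b ⬝ᵥ e₀ = 0 := hb 0
      have hb1 : b ⬝ᵥ u = 1 := hb 1
      have h1 := congrArg (fun z => ratCov K P b ⬝ᵥ z) e1
      simp only [dotProduct_sub, dotProduct_smul, ratCov_dot, hb0, hb1, dotProduct_zero] at h1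
      simp at h1
    set w := v (e₀ + u)
    have hsum : l e₀ • ratVec K P (v e₀) + l u • ratVec K P (v u) = l (e₀ + u) • ratVec K P w := by
      rw [← hlv, ← hlv, ← hlv, ← mulVec_add, ← ratVec_add]
    obtain ⟨b, hb⟩ := exists_dot_eq (pair_independent hv0 hvi) ![1, 0]
    obtain ⟨b', hb'⟩ := exists_dot_eq (pair_independent hv0 hvi) ![0, 1]
    have hb0 : b ⬝ᵥ v e₀ = 1 := hb 0
    have hb1 : b ⬝ᵥ v u = 0 := hb 1
    have hb0' : b' ⬝ᵥ v e₀ = 0 := hb' 0
    have hb1' : b' ⬝ᵥ v u = 1 := hb' 1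
    have h1 := congrArg (fun z => ratCov K P b ⬝ᵥ z) hsum
    have h2 := congrArg (fun z => ratCov K P b' ⬝ᵥ z) hsum
    simp only [dotProduct_add, dotProduct_smul, ratCov_dot, hb0, hb1, hb0', hb1', smul_eq_mul] at h1 h2
    push_cast at h1 h2
    simp only [mul_one, mul_zero, add_zero, zero_add] at h1 h2
    have hl0 : l (e₀ + u) ≠ 0 := fun e => hl e₀ he₀ne (by rw [h1, e, zero_mul])
    refine ⟨((b' ⬝ᵥ w) * (b ⬝ᵥ w)⁻¹) • v u, ?_⟩
    rw [hlv, ratVec_smul, smul_smul, h1, h2]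
    have hbw : ((b ⬝ᵥ w : K) : F) ≠ 0 := fun e => hl e₀ he₀ne (by rw [h1, e, mul_zero])
    congr 1
    push_cast
    field_simp

include hn in
/-- The subfield subgroup is maximal. -/
theorem isMaximalIn_subfield_linear (r : ℕ) (hr : r.Prime) (hcard : Nat.card F = Nat.card K ^ r) :
    Cfsg.Geo.IsMaximalIn (Cfsg.Geo.specialLinear ι F)
      (Cfsg.Geo.subfieldSubgroup K P ⊓ Cfsg.Geo.specialLinear ι F) := by
  haveI : Nonempty ι := Fintype.card_pos_iff.mp (by omega)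
  refine ⟨lt_of_le_of_ne inf_le_right fun heq => ?_, fun M hHM hMS => ?_⟩
  · obtain ⟨c, hc⟩ : ∃ c, c ∉ K := by
      by_contra hall
      push Not at hall
      have e : Nat.card K = Nat.card F := Nat.card_congr (Equiv.subtypeUnivEquiv hall)
      rw [e] at hcard
      have h2 := hcard.symm.trans (pow_one _).symm
      exact hr.one_lt.ne' (Nat.pow_right_injective Finite.one_lt_card h2)
    obtain ⟨v, -, hv⟩ := exists_dot_perp ![(0 : ι → K)] (⊥ : Submodule K (ι → K)) (by rw [finrank_bot]; omega)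
    have hv0 : v ≠ 0 := fun e => hv (by rw [e]; exact zero_mem _)
    obtain ⟨a, ha0, ha⟩ := exists_dot_perp ![v] (⊥ : Submodule K (ι → K)) (by rw [finrank_bot]; omega)
    have hav : a ⬝ᵥ v = 0 := by rw [dotProduct_comm]; exact ha0 0
    obtain ⟨x, hx⟩ := exists_dot_eq (K := K) (u := ![a])
      (linearIndependent_unique_iff.mpr (by simpa using fun e : a = 0 => ha (by rw [e]; exact zero_mem _))) ![1]
    obtain ⟨b, hb⟩ := exists_dot_eq (K := K) (u := ![v]) (linearIndependent_unique_iff.mpr (by simpa using hv0)) ![1]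
    have hax : a ⬝ᵥ x = 1 := by rw [dotProduct_comm]; exact hx 0
    have hbv : b ⬝ᵥ v = 1 := hb 0
    have hd : (c • ratCov K P a) ⬝ᵥ ratVec K P v = 0 := by
      rw [smul_dotProduct, ratCov_dot_eq_zero hav, smul_zero]
    obtain ⟨l, hl0, hl⟩ := exists_scale_of_mem (K := K) (P := P)
      (heq.ge (FormMax.Tr_mem_SL (ratVec K P v) (c • ratCov K P a) hd)).1
    obtain ⟨v₁, hv₁⟩ := hl v
    obtain ⟨v₂, hv₂⟩ := hl x
    rw [FormMax.Tr_mulVec, hd, zero_smul, add_zero] at hv₁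
    rw [FormMax.Tr_mulVec, smul_dotProduct, ratCov_dot, hax] at hv₂
    have h1 := congrArg (fun z => ratCov K P b ⬝ᵥ z) hv₁
    have h2 := congrArg (fun z => ratCov K P b ⬝ᵥ z) hv₂
    simp only [dotProduct_add, dotProduct_smul, ratCov_dot, hbv, smul_eq_mul] at h1 h2
    push_cast at h1 h2
    simp only [mul_one] at h2
    have hlK : l ∈ K := by
      rw [eq_inv_of_mul_eq_one_left h1.symm]
      exact K.inv_mem (b ⬝ᵥ v₁).2
    apply hc
    rw [show c = l * ((b ⬝ᵥ v₂ : K) : F) - ((b ⬝ᵥ x : K) : F) by linear_combination h2]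
    exact K.sub_mem (K.mul_mem hlK (b ⬝ᵥ v₂).2) (b ⬝ᵥ x).2
  by_cases hM : M ≤ Cfsg.Geo.subfieldSubgroup K P
  · exact Or.inl (le_antisymm (le_inf hM hMS) hHM)
  right
  obtain ⟨g, hgM, hg⟩ := SetLike.not_le_iff_exists.mp hM
  obtain ⟨u, hu⟩ := exists_irrational_image hg
  obtain ⟨a, ha0, ha⟩ := exists_dot_perp ![u] (⊥ : Submodule K (ι → K)) (by rw [finrank_bot]; omega)
  have hau : a ⬝ᵥ u = 0 := by rw [dotProduct_comm]; exact ha0 0
  have hxy := InTr.conj hgM (inTr_rat hHM u a hau)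
  have hy : ratCov K P a ᵥ* ((g⁻¹ : GL ι F) : Matrix ι ι F) ≠ 0 := fun e =>
    ratCov_ne_zero (P := P) (fun e0 : a = 0 => ha (by rw [e0]; exact zero_mem _))
      (by simpa [vecMul_vecMul] using congrArg (· ᵥ* (g : Matrix ι ι F)) e)
  obtain ⟨x', y', b, hx', hy', hxy', hb, hbx'⟩ : ∃ (x' y' : ι → F) (b : ι → K),
      ¬ RatPt K P x' ∧ y' ≠ 0 ∧ InTr M x' y' ∧ b ≠ 0 ∧ ratCov K P b ⬝ᵥ x' = 0 := by
    by_cases h : ∃ b : ι → K, b ≠ 0 ∧ ratCov K P b ⬝ᵥ ((g : Matrix ι ι F) *ᵥ ratVec K P u) = 0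
    · obtain ⟨b, hb, hb'⟩ := h
      exact ⟨_, _, b, hu, hy, hxy, hb, hb'⟩
    · push Not at h
      exact exists_annih_centre hn hHM r hr hcard hy hxy h
  obtain ⟨c, hc, hgood⟩ := exists_goodL_of_annih hn hHM hx' hy' hxy' hb hbx'
  exact eq_SL_of_goodL hMS (goodL_all hn hHM r hr hcard hc hgood)

end Cfsg.Agent.Lib.SubfieldMax
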