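import Mathlib
import Cfsg.Prelude.Def_GeometricClasses

/-!
Rational structures: the `F₀`-span of the columns of an invertible matrix and its stabiliser up to scalars.
-/

set_option autoImplicit false

namespace Cfsg.Agent.Lib.SubfieldMax

open Matrix

variable {ι : Type} [Fintype ι] [DecidableEq ι] {F : Type*} [Field F] (K : Subfield F)

/-- A rational coordinate vector as a vector of the space. -/
def ratVec (P : GL ι F) (u : ι → K) : ι → F := (P : Matrix ι ι F) *ᵥ fun i => (u i : F)

variable {K} {P : GL ι F}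

theorem ratVec_add (u v : ι → K) : ratVec K P (u + v) = ratVec K P u + ratVec K P v := by
  rw [ratVec, ratVec, ratVec, ← mulVec_add]
  rfl

theorem ratVec_smul (a : K) (u : ι → K) : ratVec K P (a • u) = (a : F) • ratVec K P u := by
  rw [ratVec, ratVec, ← mulVec_smul]
  rfl

theorem ratVec_zero : ratVec K P (0 : ι → K) = 0 := by
  rw [ratVec]
  convert mulVec_zero (P : Matrix ι ι F)
  simp

theorem ratVec_sub (u v : ι → K) : ratVec K P (u - v) = ratVec K P u - ratVec K P v := by
  rw [eq_sub_iff_add_eq, ← ratVec_add, sub_add_cancel]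

theorem ratVec_injective : Function.Injective (ratVec K P) := fun u v h => by
  have h' := congrArg (((P⁻¹ : GL ι F) : Matrix ι ι F) *ᵥ ·) h
  simp only [ratVec, mulVec_mulVec, Units.inv_mul, one_mulVec] at h'
  funext i
  exact Subtype.ext (congrFun h' i)

theorem ratVec_eq_zero {u : ι → K} : ratVec K P u = 0 ↔ u = 0 :=
  ⟨fun h => ratVec_injective (h.trans ratVec_zero.symm), fun h => by rw [h, ratVec_zero]⟩

theorem eq_sum_ratVec (v : ι → F) :
    v = ∑ i, ((((P⁻¹ : GL ι F) : Matrix ι ι F) *ᵥ v) i) • ratVec K P (Pi.single i 1) := by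
  set c := ((P⁻¹ : GL ι F) : Matrix ι ι F) *ᵥ v with hc
  calc v = (P : Matrix ι ι F) *ᵥ c := by rw [hc, mulVec_mulVec, Units.mul_inv, one_mulVec]
    _ = (P : Matrix ι ι F) *ᵥ ∑ i, c i • (fun k => ((Pi.single i 1 : ι → K) k : F)) := by
        congr 1
        funext k
        rw [Finset.sum_apply, Finset.sum_eq_single k]
        · simp
        · intro i _ hik
          simp [Pi.single_eq_of_ne (Ne.symm hik)]
        · simp
    _ = _ := by
        rw [← Matrix.mulVecLin_apply, map_sum]
        exact Finset.sum_congr rfl fun i _ => map_smul _ _ _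

/-- Linear maps agreeing on the rational vectors agree. -/
theorem ext_ratVec {W : Type*} [AddCommGroup W] [Module F W] {L L' : (ι → F) →ₗ[F] W}
    (h : ∀ u : ι → K, L (ratVec K P u) = L' (ratVec K P u)) : L = L' := by
  refine LinearMap.ext fun v => ?_
  rw [eq_sum_ratVec (K := K) (P := P) v, map_sum, map_sum]
  exact Finset.sum_congr rfl fun i _ => by rw [map_smul, map_smul, h]

theorem mem_subfield_of_maps {g : GL ι F} {l : F} (hl : l ≠ 0)
    (hg : ∀ u : ι → K, ∃ v : ι → K, (g : Matrix ι ι F) *ᵥ ratVec K P u = l • ratVec K P v) :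
    g ∈ Cfsg.Geo.subfieldSubgroup K P := by
  choose v hv using fun k => hg (Pi.single k 1)
  let A : Matrix ι ι K := Matrix.of fun i k => v k i
  have hgP : (g : Matrix ι ι F) * (P : Matrix ι ι F) = l • ((P : Matrix ι ι F) * A.map K.subtype) := by
    refine Matrix.ext fun i k => ?_
    have h := congrFun (hv k) i
    have e : (fun a => ((Pi.single k (1 : K) : ι → K) a : F)) = Pi.single k 1 := by
      funext a
      by_cases h : a = k
      · subst h; simp
      · simp [Pi.single_eq_of_ne h]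
    simp only [ratVec, e, mulVec_mulVec, mulVec_single_one, Matrix.col_apply, Pi.smul_apply] at h
    rw [show ((g : Matrix ι ι F) * (P : Matrix ι ι F)) i k = ((g : Matrix ι ι F) *ᵥ (P : Matrix ι ι F).col k) i from rfl,
      h, Matrix.smul_apply, Matrix.mul_apply]
    rfl
  have hdet : A.det ≠ 0 := fun h0 => by
    have h1 := congrArg Matrix.det hgP
    rw [Matrix.det_mul, Matrix.det_smul, Matrix.det_mul, ← RingHom.mapMatrix_apply, ← RingHom.map_det, h0,
      map_zero, mul_zero, mul_zero] at h1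
    exact mul_ne_zero (Matrix.GeneralLinearGroup.det_ne_zero g) (Matrix.GeneralLinearGroup.det_ne_zero P) h1
  let AG : GL ι K := Matrix.GeneralLinearGroup.mkOfDetNeZero A hdet
  refine ⟨Matrix.GeneralLinearGroup.map (K.subtype : K →+* F) AG *
    Units.map (Matrix.scalar ι : F →+* Matrix ι ι F).toMonoidHom (Units.mk0 l hl),
    Subgroup.mul_mem_sup ⟨AG, rfl⟩ ⟨Units.mk0 l hl, rfl⟩, ?_⟩
  rw [MulEquiv.coe_toMonoidHom, MulAut.conj_apply, mul_inv_eq_iff_eq_mul]
  refine Units.ext ?_
  simp only [Units.val_mul, hgP]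
  show (P : Matrix ι ι F) * (A.map K.subtype * Matrix.scalar ι l) = _
  rw [← (Matrix.scalar_commute l (fun r => Commute.all l r) (A.map K.subtype)).eq, ← Matrix.mul_assoc,
    ← (Matrix.scalar_commute l (fun r => Commute.all l r) (P : Matrix ι ι F)).eq, Matrix.mul_assoc,
    Matrix.scalar_apply, ← Matrix.smul_eq_diagonal_mul]

theorem exists_scale_of_mem [Finite F] {g : GL ι F} (hg : g ∈ Cfsg.Geo.subfieldSubgroup K P) :
    ∃ l : F, l ≠ 0 ∧ ∀ u : ι → K, ∃ v : ι → K, (g : Matrix ι ι F) *ᵥ ratVec K P u = l • ratVec K P v := by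
  let S : Submonoid (GL ι F) :=
    { carrier := {g | ∃ l : F, l ≠ 0 ∧ ∀ u : ι → K, ∃ v : ι → K,
        (g : Matrix ι ι F) *ᵥ ratVec K P u = l • ratVec K P v}
      one_mem' := ⟨1, one_ne_zero, fun u => ⟨u, by simp⟩⟩
      mul_mem' := by
        rintro a b ⟨la, ha0, ha⟩ ⟨lb, hb0, hb⟩
        refine ⟨la * lb, mul_ne_zero ha0 hb0, fun u => ?_⟩
        obtain ⟨v, hv⟩ := hb u
        obtain ⟨w, hw⟩ := ha v
        exact ⟨w, by rw [Units.val_mul, ← mulVec_mulVec, hv, mulVec_smul, hw, smul_smul, mul_comm]⟩ }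
  let S' : Subgroup (GL ι F) :=
    { S with
      inv_mem' := fun {a} ha => by
        have hpos : 0 < orderOf a := orderOf_pos a
        have h : a⁻¹ = a ^ (orderOf a - 1) := inv_eq_of_mul_eq_one_right (by
          rw [← pow_succ', Nat.sub_add_cancel hpos, pow_orderOf_eq_one])
        rw [h]
        exact pow_mem (show a ∈ S from ha) _ }
  have hle : (Matrix.GeneralLinearGroup.map (K.subtype : K →+* F) :
      GL ι K →* GL ι F).range ⊔ Cfsg.Geo.scalars ι F ≤ S'.comap (MulAut.conj P).toMonoidHom := by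
    refine sup_le ?_ ?_
    · rintro _ ⟨A, rfl⟩
      refine ⟨1, one_ne_zero, fun u => ⟨(A : Matrix ι ι K) *ᵥ u, ?_⟩⟩
      rw [one_smul, MulEquiv.coe_toMonoidHom, MulAut.conj_apply, ratVec, ratVec, Units.val_mul, Units.val_mul,
        mulVec_mulVec, Units.inv_mul_cancel_right, ← mulVec_mulVec]
      congr 1
      funext i
      show ((A : Matrix ι ι K).map K.subtype *ᵥ fun i => K.subtype (u i)) i = K.subtype _
      rw [RingHom.map_mulVec]
      rfl
    · rintro _ ⟨c, rfl⟩
      refine ⟨c, c.ne_zero, fun u => ⟨u, ?_⟩⟩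
      rw [MulEquiv.coe_toMonoidHom, MulAut.conj_apply, ratVec, Units.val_mul, Units.val_mul,
        mulVec_mulVec, Units.inv_mul_cancel_right, ← mulVec_mulVec]
      show (P : Matrix ι ι F) *ᵥ (Matrix.scalar ι (c : F) *ᵥ _) = _
      rw [Matrix.scalar_apply, ← Matrix.smul_one_eq_diagonal, smul_mulVec, one_mulVec, mulVec_smul]
  obtain ⟨x, hx, rfl⟩ := hg
  exact hle hx

end Cfsg.Agent.Lib.SubfieldMax
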