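import Mathlib
import Cfsg.Agent.Lib.SubfieldMax.Rational
import Cfsg.Agent.Lib.UnitaryMax.Basic
import Cfsg.Agent.Lib.FormMax.OrthBasic

/-!
# The orthogonal subfield group is maximal in `SU_n(q)`, `q` odd
-/

set_option autoImplicit false
set_option linter.unusedSectionVars false

namespace Cfsg.Agent.Lib.SubfieldMax.UnitaryOrth

open Matrix QuadraticMap
open Cfsg.Agent.Lib Cfsg.Agent.Lib.Forms Cfsg.Agent.Lib.UnitaryMax
open Cfsg.Agent.Lib.FormMax (gl_ext)
open Cfsg.Agent.Lib.SubfieldMax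

variable {F : Type*} [Field F] [Fintype F] {n q : ℕ}

local notation "Vs" => (Fin n → F)
local notation "h" => Cfsg.hermForm n F q
local notation "GLs" => GL (Fin n) F
local notation:1024 "↟" g:1024 => (Units.val g : Matrix (Fin n) (Fin n) F)

theorem gl_mulVec (a b : GLs) (x : Vs) : ↟(a * b) *ᵥ x = ↟a *ᵥ (↟b *ᵥ x) := by
  rw [mulVec_mulVec, Units.val_mul]

/-- A subfield of order `q` is the set of fixed points of `x ↦ x ^ q`. -/
theorem fixed_iff {K : Subfield F} (hK : Nat.card K = q) (a : F) : a ^ q = a ↔ a ∈ K := by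
  classical
  have : Fintype K := Fintype.ofFinite K
  rw [Nat.card_eq_fintype_card] at hK
  subst hK
  constructor
  · intro h0
    by_contra ha
    have hdeg := FiniteField.X_pow_card_sub_X_natDegree_eq F (Fintype.one_lt_card (α := K))
    have hsub : (insert a ((Finset.univ : Finset K).image Subtype.val)).val ≤
        (Polynomial.X ^ Fintype.card K - Polynomial.X : Polynomial F).roots := by
      rw [Multiset.le_iff_subset (Finset.nodup _)]
      intro x hx
      rw [Polynomial.mem_roots (FiniteField.X_pow_card_sub_X_ne_zero F Fintype.one_lt_card)]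
      simp only [Finset.mem_val, Finset.mem_insert, Finset.mem_image, Finset.mem_univ, true_and] at hx
      rcases hx with rfl | ⟨y, rfl⟩
      · simp [h0, sub_eq_zero]
      · have := congrArg Subtype.val (FiniteField.pow_card y)
        simp only [SubmonoidClass.coe_pow] at this
        simp [this, sub_eq_zero]
    have hle := (Multiset.card_le_card hsub).trans (Polynomial.card_roots' _)
    rw [Finset.card_val, Finset.card_insert_of_notMem (by simpa using ha),
      Finset.card_image_of_injective _ Subtype.val_injective, Finset.card_univ, hdeg] at hle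
    omega
  · intro ha
    have := congrArg Subtype.val (FiniteField.pow_card (⟨a, ha⟩ : K))
    simpa using this

/-- The constant completing an Eichler element. -/
noncomputable def half (q : ℕ) (a : Vs) : F := -(Cfsg.hermForm n F q a a) / 2

section Eichler

variable (hF : Fintype.card F = q ^ 2) (h2 : (2 : F) ≠ 0)
include hF h2

theorem half_spec (a : Vs) : half q a ^ q + half q a + h a a = 0 := by
  have h2q : (2 : F) ^ q = 2 := by rw [← qPowHom_apply hF, map_ofNat]
  rw [half, div_pow, h2q, q_neg hF, herm_conj hF]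
  field_simp
  ring

/-- The Eichler element `x ↦ x + h(x,u) a - (h(x,a) + h(a,a) h(x,u) / 2) u`. -/
noncomputable def E (u a : Vs) (hu : h u u = 0) (ha : h a u = 0) : GLs :=
  glMk (eichlerMatrix q u (-a) (half q a))
    (det_eichlerMatrix hF _ hu (by rw [← zero_sub, h_sub_left hF, h_zero_left hF, ha, sub_zero]))

theorem E_mulVec {u a : Vs} (hu : h u u = 0) (ha : h a u = 0) (x : Vs) :
    ↟(E hF u a hu ha) *ᵥ x = x + h x u • a + (half q a * h x u - h x a) • u := by
  rw [E, glMk_val, eichlerMatrix_mulVec, ← zero_sub a, h_sub_right hF, h_zero_right hF]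
  module

theorem E_mem {u a : Vs} (hu : h u u = 0) (ha : h a u = 0) : E hF u a hu ha ∈ suGL n F q := by
  refine glMk_mem _ _ (eichlerMatrix_preserves hF hu
    (by rw [← zero_sub, h_sub_left hF, h_zero_left hF, ha, sub_zero]) ?_)
  rw [← zero_sub a, h_sub_left hF, h_sub_right hF, h_sub_right hF, h_zero_left hF, h_zero_left hF,
    h_zero_right hF]
  linear_combination half_spec hF h2 a

theorem conj_E {g : GLs} (hg : g ∈ suGL n F q) {u a : Vs} (hu : h u u = 0) (ha : h a u = 0) :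
    g * E hF u a hu ha * g⁻¹ =
      E hF (↟g *ᵥ u) (↟g *ᵥ a) (by rw [apply_K hg, hu]) (by rw [apply_K hg, ha]) := by
  rw [mul_inv_eq_iff_eq_mul]
  refine gl_ext fun x => ?_
  rw [gl_mulVec, gl_mulVec, E_mulVec hF h2, E_mulVec hF h2, mulVec_add, mulVec_add, mulVec_smul, mulVec_smul]
  simp only [half, apply_K hg]

/-- The commutator of Eichler elements with orthogonal centres. -/
theorem bridge_mem {H : Subgroup GLs} {p a w b : Vs} (hp : h p p = 0) (hap : h a p = 0)
    (hw : h w w = 0) (hbw : h b w = 0) (hwp : h w p = 0) (haw : h a w = 0) (hbp : h b p = 0)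
    (hX : E hF p a hp hap ∈ H) (hY : E hF w b hw hbw ∈ H) :
    ∃ Z ∈ H, ∀ x, ↟Z *ᵥ x = x + (h a b * h x p) • w - (h b a * h x w) • p := by
  set X := E hF p a hp hap with hXd
  set Y := E hF w b hw hbw with hYd
  refine ⟨(X * Y) * (Y * X)⁻¹, H.mul_mem (H.mul_mem hX hY) (H.inv_mem (H.mul_mem hY hX)), fun x => ?_⟩
  obtain ⟨y, rfl⟩ : ∃ y, ↟(Y * X) *ᵥ y = x := ⟨_, mulVec_inv_mulVec (Y * X) x⟩
  rw [gl_mulVec, inv_mulVec_mulVec, gl_mulVec, gl_mulVec, hXd, hYd, E_mulVec hF h2, E_mulVec hF h2, E_mulVec hF h2,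
    E_mulVec hF h2]
  simp only [herm_add_left hF, herm_smul_left hF, hp, hap, hw, hbw, hwp, haw, hbp, h_symm hF hap,
    h_symm hF hbw, h_symm hF hwp, h_symm hF haw, h_symm hF hbp]
  module

/-- The commutator giving a transvection. -/
theorem transvection_mem {H : Subgroup GLs} {w β z : Vs} (hw : h w w = 0) (hβw : h β w = 0)
    (hββ : h β β = 0) (hzw : h z w = 0)
    (hZ : ∃ Z ∈ H, ∀ x, ↟Z *ᵥ x = x + h x w • β - h x β • w) (hY : E hF w z hw hzw ∈ H) :
    T w (h β z - h z β) hw ∈ H := by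
  obtain ⟨Z, hZH, hZx⟩ := hZ
  set Y := E hF w z hw hzw with hYd
  convert H.mul_mem (H.mul_mem hZH hY) (H.inv_mem (H.mul_mem hY hZH)) using 1
  refine gl_ext fun x => ?_
  obtain ⟨y, rfl⟩ : ∃ y, ↟(Y * Z) *ᵥ y = x := ⟨_, mulVec_inv_mulVec (Y * Z) x⟩
  rw [gl_mulVec (Z * Y), inv_mulVec_mulVec, T_mulVec, gl_mulVec, gl_mulVec, hYd, E_mulVec hF h2, E_mulVec hF h2,
    hZx, hZx]
  simp only [herm_add_left hF, h_sub_left hF, herm_smul_left hF, hw, hβw, hββ, hzw,
    h_symm hF hβw, h_symm hF hzw]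
  module

end Eichler

/-! ### The rational form -/

variable (hF : Fintype.card F = q ^ 2) {K : Subfield F} (hK : Nat.card K = q) (P : GL (Fin n) F)
  (hP : ∀ u v : Fin n → K, Cfsg.hermForm n F q (ratVec K P u) (ratVec K P v) ∈ K)

local notation "Ks" => (Fin n → K)
local notation "ρ" => ratVec K P
local notation "Ω" => Cfsg.Geo.subfieldSubgroup K P ⊓ suGL n F q

/-- The form on rational coordinates. -/
noncomputable def ratBil : Ks →ₗ[K] Ks →ₗ[K] K :=
  LinearMap.mk₂ K (fun u v => ⟨h (ρ u) (ρ v), hP u v⟩)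
    (fun a b c => Subtype.ext (by
      show h (ρ (a + b)) (ρ c) = h (ρ a) (ρ c) + h (ρ b) (ρ c)
      rw [ratVec_add, herm_add_left hF]))
    (fun t a c => Subtype.ext (by
      show h (ρ (t • a)) (ρ c) = (t : F) * h (ρ a) (ρ c)
      rw [ratVec_smul, herm_smul_left hF]))
    (fun a b c => Subtype.ext (by
      show h (ρ a) (ρ (b + c)) = h (ρ a) (ρ b) + h (ρ a) (ρ c)
      rw [ratVec_add, herm_add_right hF]))
    (fun t a c => Subtype.ext (by
      show h (ρ a) (ρ (t • c)) = (t : F) * h (ρ a) (ρ c)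
      rw [ratVec_smul, herm_smul_right hF]
      congr 1
      exact (fixed_iff hK _).mpr t.2))

theorem ratBil_coe (u v : Ks) : (ratBil hF hK P hP u v : F) = h (ρ u) (ρ v) := rfl

/-- The quadratic form on rational coordinates. -/
noncomputable def ratQuad : QuadraticForm K Ks :=
  LinearMap.BilinMap.toQuadraticMap ((2 : K)⁻¹ • ratBil hF hK P hP)

local notation "Qr" => ratQuad hF hK P hP

include hF hK hP

theorem ratBil_comm (u v : Ks) : ratBil hF hK P hP u v = ratBil hF hK P hP v u := Subtype.ext (by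
  rw [ratBil_coe, ratBil_coe, ← herm_conj hF (ρ v) (ρ u)]; exact (fixed_iff hK _).mpr (hP v u))

variable (h2 : (2 : F) ≠ 0)
include h2

theorem two_ne_K : (2 : K) ≠ 0 := fun e => h2 (by rw [← map_ofNat K.subtype 2, e, map_zero])

theorem polar_ratQuad (u v : Ks) : polar ⇑Qr u v = ratBil hF hK P hP u v := by
  have := two_ne_K hF hK P hP h2
  rw [ratQuad, LinearMap.BilinMap.polar_toQuadraticMap, LinearMap.smul_apply, LinearMap.smul_apply,
    LinearMap.smul_apply, LinearMap.smul_apply, ratBil_comm hF hK P hP v u, ← add_smul, smul_eq_mul]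
  field_simp
  ring

theorem herm_ratVec (u v : Ks) : h (ρ u) (ρ v) = ((polar ⇑Qr u v : K) : F) := by
  rw [polar_ratQuad hF hK P hP h2, ratBil_coe]

theorem herm_ratVec_self (u : Ks) : h (ρ u) (ρ u) = 2 * ((Qr u : K) : F) := by
  rw [herm_ratVec hF hK P hP h2, Orth.polar_self_eq]; rfl

theorem herm_ratVec_zero {u : Ks} (hu : Qr u = 0) : h (ρ u) (ρ u) = 0 := by
  rw [herm_ratVec_self hF hK P hP h2, hu]; simp

theorem herm_ratVec_perp {u v : Ks} (huv : polar ⇑Qr u v = 0) : h (ρ u) (ρ v) = 0 := by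
  rw [herm_ratVec hF hK P hP h2, huv]; rfl

theorem herm_ratVec_one {u v : Ks} (huv : polar ⇑Qr u v = 1) : h (ρ u) (ρ v) = 1 := by
  rw [herm_ratVec hF hK P hP h2, huv]; rfl

theorem eq_zero_of_herm_ratVec {z : Vs} (hz : ∀ u : Ks, h (ρ u) z = 0) : z = 0 := by
  have key : hermSesq hF n z = 0 := ext_ratVec (K := K) (P := P) fun u => by
    rw [LinearMap.zero_apply, hermSesq_apply]; exact hz u
  refine (hermSesq_goodForm hF).nondeg z fun x => ?_
  exact LinearMap.congr_fun key x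

theorem ratQuad_nondegenerate : (QuadraticMap.polarBilin Qr).Nondegenerate := by
  have key : ∀ u, (∀ v, polar ⇑Qr u v = 0) → u = 0 := fun u hu =>
    ratVec_eq_zero.mp (eq_zero_of_herm_ratVec hF hK P hP h2 fun v => by
      rw [herm_ratVec hF hK P hP h2, polar_comm, hu]; rfl)
  exact ⟨key, fun v hv => key v fun u => by rw [polar_comm]; exact hv u⟩

/-- A singular vector not orthogonal to a given non-zero vector of the space. -/
theorem exists_singular_ne (hn : 5 ≤ n) {z : Vs} (hz : z ≠ 0) :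
    ∃ u, u ≠ 0 ∧ Qr u = 0 ∧ h z (ρ u) ≠ 0 := by
  have hQ := ratQuad_nondegenerate hF hK P hP h2
  by_contra hno
  push Not at hno
  refine hz (eq_zero_of_herm_ratVec hF hK P hP h2 fun x => h_symm hF ?_)
  have hs : ∀ v, Qr v = 0 → h z (ρ v) = 0 := fun v hv => by
    rcases eq_or_ne v 0 with rfl | hv0
    · rw [ratVec_zero, h_zero_right hF]
    · exact hno v hv0 hv
  rcases eq_or_ne x 0 with rfl | hx
  · rw [ratVec_zero, h_zero_right hF]
  obtain ⟨e, he0, he⟩ := Orth.exists_singular (two_ne_K hF hK P hP h2) hQ (by simp; omega)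
  obtain ⟨v, hv, -, hxv⟩ := FormMax.OrthSL.exists_common_partner hQ (two_ne_K hF hK P hP h2)
    (by simp; omega) he0 he hx
  set c := Qr x / polar ⇑Qr x v with hc
  have h1 : Qr (x + (-c) • v) = 0 := by
    rw [QuadraticMap.map_add (⇑Qr), QuadraticMap.map_smul, polar_smul_right, hv, hc, smul_eq_mul,
      smul_eq_mul]
    field_simp
    ring
  have h4 := hs _ h1
  rw [ratVec_add, ratVec_smul, herm_add_right hF, herm_smul_right hF, hs v hv, mul_zero, add_zero] at h4
  exact h4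

/-- Rational Eichler elements lie in the subfield group. -/
theorem E_ratVec_mem {u a : Ks} (hu : Qr u = 0) (ha : polar ⇑Qr u a = 0) :
    ∃ hu' ha', E hF (ρ u) (ρ a) hu' ha' ∈ Ω ∧
      ∀ x, ↟(E hF (ρ u) (ρ a) hu' ha') *ᵥ ρ x = ρ (FormMax.OrthSL.eichlerMat Qr u a *ᵥ x) := by
  have hu' := herm_ratVec_zero hF hK P hP h2 hu
  have ha' : h (ρ a) (ρ u) = 0 := herm_ratVec_perp hF hK P hP h2 (by rw [polar_comm]; exact ha)
  have key : ∀ x, ↟(E hF (ρ u) (ρ a) hu' ha') *ᵥ ρ x = ρ (FormMax.OrthSL.eichlerMat Qr u a *ᵥ x) := by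
    intro x
    rw [E_mulVec hF h2, FormMax.OrthSL.eichlerMat_mulVec, ratVec_sub, ratVec_add, ratVec_smul,
      ratVec_smul, half, herm_ratVec_self hF hK P hP h2, herm_ratVec hF hK P hP h2,
      herm_ratVec hF hK P hP h2, polar_comm (⇑Qr) x u, polar_comm (⇑Qr) x a, AddMemClass.coe_add,
      MulMemClass.coe_mul, neg_div, mul_div_cancel_left₀ _ h2]
    module
  exact ⟨hu', ha', ⟨mem_subfield_of_maps one_ne_zero fun x => ⟨_, by rw [one_smul]; exact key x⟩,
    E_mem hF h2 hu' ha'⟩, key⟩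

/-- The rational coordinates of a vector with respect to a skew scalar. -/
theorem exists_decomp {δ : F} (hδ : δ + δ ^ q = 0) (hδ0 : δ ≠ 0) (z : Vs) :
    ∃ z₁ z₂ : Ks, z = ρ z₁ + δ • ρ z₂ := by
  have hδq : δ ^ q = -δ := eq_neg_of_add_eq_zero_right hδ
  have h2q : (2 : F) ^ q = 2 := by rw [← qPowHom_apply hF, map_ofNat]
  set c := ((P⁻¹ : GLs) : Matrix (Fin n) (Fin n) F) *ᵥ z with hc
  have m1 : ∀ i, (c i + c i ^ q) / 2 ∈ K := fun i => (fixed_iff hK _).mp (by
    rw [div_pow, q_add hF, pow_q_pow_q hF, h2q, add_comm])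
  have m2 : ∀ i, (c i - c i ^ q) / (2 * δ) ∈ K := fun i => (fixed_iff hK _).mp (by
    rw [div_pow, q_sub hF, pow_q_pow_q hF, mul_pow, h2q, hδq]
    field_simp
    ring)
  refine ⟨fun i => ⟨_, m1 i⟩, fun i => ⟨_, m2 i⟩, ?_⟩
  rw [ratVec, ratVec, ← mulVec_smul, ← mulVec_add]
  conv_lhs => rw [← mulVec_inv_mulVec P z, ← hc]
  congr 1
  funext i
  simp only [Pi.add_apply, Pi.smul_apply, smul_eq_mul]
  field_simp
  ring

omit hP in
/-- Coordinates in the basis `1, δ` of the field are unique. -/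
theorem coord_zero {δ : F} (hδ : δ + δ ^ q = 0) (hδ0 : δ ≠ 0) {a b : K}
    (e : (a : F) + δ * (b : F) = 0) : a = 0 ∧ b = 0 := by
  have e' := congrArg (· ^ q) e
  simp only [q_add hF, mul_pow, eq_neg_of_add_eq_zero_right hδ, (fixed_iff hK _).mpr a.2,
    (fixed_iff hK _).mpr b.2, q_zero hF] at e'
  have hb : (b : F) = 0 := by
    have : 2 * δ * (b : F) = 0 := by linear_combination e - e'
    exact (mul_eq_zero.mp this).resolve_left (mul_ne_zero h2 hδ0)
  exact ⟨Subtype.ext (by rw [hb, mul_zero, add_zero] at e; exact e), Subtype.ext hb⟩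

/-! ### Root vectors -/

variable {H : Subgroup (GL (Fin n) F)} (hΩ : Cfsg.Geo.subfieldSubgroup K P ⊓ suGL n F q ≤ H) (hH : H ≤ suGL n F q) (hn : 6 ≤ n)
include hΩ hH hn

theorem root_all_rat {w : Ks} (hw0 : w ≠ 0) (hw : Qr w = 0) (hwR : ρ w ∈ root q H) {x : Ks}
    (hx : Qr x = 0) : ρ x ∈ root q H := by
  have hQ := ratQuad_nondegenerate hF hK P hP h2
  rcases eq_or_ne x 0 with rfl | hx0
  · rw [ratVec_zero]
    simpa using root_smul hF hwR 0
  obtain ⟨v, hv, hwv, hxv⟩ := FormMax.OrthSL.exists_common_partner hQ (two_ne_K hF hK P hP h2)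
    (by simp; omega) hw0 hw hx0
  set r := (polar ⇑Qr x v)⁻¹ with hr
  have hvx : polar ⇑Qr v (r • x - w) = 0 := by
    rw [polar_sub_right, polar_smul_right, polar_comm _ v x, polar_comm _ v w, hwv, smul_eq_mul, hr,
      inv_mul_cancel₀ hxv, sub_self]
  obtain ⟨hv', ha', hmem, hmap⟩ := E_ratVec_mem hF hK P hP h2 hv hvx
  have h1 := root_map hH (hΩ hmem) hwR
  rw [hmap, FormMax.OrthSL.eichlerMat_mulVec] at h1
  have e : w + polar ⇑Qr v w • (r • x - w) -
      (polar ⇑Qr (r • x - w) w + Qr (r • x - w) * polar ⇑Qr v w) • v = r • x := by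
    rw [polar_comm _ v w, hwv, one_smul, mul_one, sub_eq_add_neg (r • x) w,
      QuadraticMap.map_add (⇑Qr), QuadraticMap.map_neg, QuadraticMap.map_smul, polar_neg_right,
      polar_add_left, polar_neg_left, Orth.polar_self_zero hw, hx, hw]
    simp
  rw [e, ratVec_smul] at h1
  have h4 := root_smul hF h1 ((r : F)⁻¹)
  rwa [smul_smul, inv_mul_cancel₀ (fun e' => inv_ne_zero hxv (Subtype.ext e')), one_smul] at h4

theorem eq_suGL_of_rat_root (hrat : ∀ x, Qr x = 0 → ρ x ∈ root q H) : H = suGL n F q := by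
  have hQ := ratQuad_nondegenerate hF hK P hP h2
  have h2K := two_ne_K hF hK P hP h2
  obtain ⟨δ, hδ, hδ0⟩ := exists_skew_ne hF
  refine eq_suGL hF (by omega) (by omega) hH fun z hz => ?_
  rcases eq_or_ne z 0 with rfl | hz0
  · obtain ⟨w, -, hw⟩ := Orth.exists_singular h2K hQ (by simp; omega)
    simpa using root_smul hF (hrat w hw) 0
  obtain ⟨u, hu0, hu, hzu⟩ := exists_singular_ne hF hK P hP h2 (by omega) hz0
  obtain ⟨v, hv, huv⟩ := Orth.exists_partner hQ hu0 hu
  have huu := herm_ratVec_zero hF hK P hP h2 hu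
  let Good : Vs → Prop := fun b => h b (ρ u) = 0 ∧
    ∀ y ∈ root q H, h y (ρ u) = 1 → ∃ e : F, y + b + e • ρ u ∈ root q H
  have hadd : ∀ a b, Good a → Good b → Good (a + b) := by
    rintro a b ⟨ha, ha'⟩ ⟨hb, hb'⟩
    refine ⟨by rw [herm_add_left hF, ha, hb, add_zero], fun y hy hy1 => ?_⟩
    obtain ⟨e, he⟩ := ha' y hy hy1
    obtain ⟨e', he'⟩ := hb' _ he (by
      rw [herm_add_left hF, herm_add_left hF, herm_smul_left hF, hy1, ha, huu, mul_zero, add_zero,
        add_zero])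
    exact ⟨e + e', by convert he' using 1; module⟩
  have hreal : ∀ a : Ks, polar ⇑Qr u a = 0 → Good (ρ a) := by
    intro a ha
    obtain ⟨hu', ha', hmem, -⟩ := E_ratVec_mem hF hK P hP h2 hu ha
    refine ⟨ha', fun y hy hy1 => ⟨half q (ρ a) - h y (ρ a), ?_⟩⟩
    have h1 := root_map hH (hΩ hmem) hy
    rwa [E_mulVec hF h2, hy1, one_smul, mul_one] at h1
  have hskew : ∀ a : Ks, polar ⇑Qr u a = 0 → Qr a = 0 → Good (δ • ρ a) := by
    intro a ha haQ
    have hau : h (ρ a) (ρ u) = 0 := herm_ratVec_perp hF hK P hP h2 (by rw [polar_comm]; exact ha)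
    have hua : Qr (a + u) = 0 := by
      rw [QuadraticMap.map_add (⇑Qr), haQ, hu, polar_comm, ha]; simp
    refine ⟨by rw [herm_smul_left hF, hau, mul_zero], fun y hy hy1 => ?_⟩
    obtain ⟨h1, k1⟩ := hrat _ hua
    obtain ⟨h3, k3⟩ := hrat _ haQ
    have hmem := root_map hH (k3 (-δ) (by rw [q_neg hF]; linear_combination -hδ))
      (root_map hH (k1 δ hδ) hy)
    refine ⟨δ * (h y (ρ a) + 1), ?_⟩
    convert hmem using 1
    rw [T_mulVec, T_mulVec]
    simp only [ratVec_add, herm_add_left hF, herm_add_right hF, herm_smul_left hF, hy1, h3, huu, hau,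
      h_symm hF hau]
    module
  have hskew' : ∀ a : Ks, polar ⇑Qr u a = 0 → Good (δ • ρ a) := by
    intro a ha
    obtain ⟨w, hw0, hw, hwc⟩ := FormMax.OrthSL.exists_singular_conds (Q := Qr) h2K ![u, v]
      (by simp; omega)
    have huw : polar ⇑Qr u w = 0 := hwc 0
    have hwu : ∀ c : K, w ≠ c • u := by
      intro c e
      have hvw : polar ⇑Qr v w = 0 := hwc 1
      rw [e, polar_smul_right, polar_comm _ v u, huv, smul_eq_mul, mul_one] at hvw
      exact hw0 (by rw [e, hvw, zero_smul])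
    obtain ⟨w', hw', huw', hww'⟩ := FormMax.OrthSL.exists_partner_perp hQ h2K (by simp; omega) hu0 hu hwu
    have split : ∀ y : Ks, polar ⇑Qr u y = 0 → polar ⇑Qr y w ≠ 0 → Good (δ • ρ y) := by
      intro y hy hne
      set c := Qr y / polar ⇑Qr y w with hc
      have e : Qr (y + (-c) • w) = 0 := by
        rw [QuadraticMap.map_add (⇑Qr), QuadraticMap.map_smul, polar_smul_right, hw, hc, smul_eq_mul,
          smul_eq_mul]
        field_simp
        ring
      have := hadd _ _ (hskew (y + (-c) • w) (by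
          rw [polar_add_right, polar_smul_right, hy, huw, smul_zero, add_zero]) e)
        (hskew (c • w) (by rw [polar_smul_right, huw, smul_zero])
          (by rw [QuadraticMap.map_smul, hw, smul_zero]))
      convert this using 1
      simp only [ratVec_add, ratVec_smul, NegMemClass.coe_neg]
      module
    by_cases hne : polar ⇑Qr a w = 0
    · have := hadd _ _ (split (a + w') (by rw [polar_add_right, ha, huw', add_zero]) (by
          rw [polar_add_left, hne, polar_comm _ w' w, hww', zero_add]; exact one_ne_zero))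
        (hskew (-w') (by rw [polar_neg_right, huw', neg_zero]) (by rw [QuadraticMap.map_neg, hw']))
      convert this using 1
      rw [← smul_add, ← ratVec_add, add_neg_cancel_right]
    · exact split a ha hne
  -- scale `z` and move the partner of `u` to it
  set s := h z (ρ u) with hs
  suffices hs' : s⁻¹ • z ∈ root q H by
    have := root_smul hF hs' s
    rwa [smul_smul, mul_inv_cancel₀ hzu, one_smul] at this
  obtain ⟨z', hz'⟩ : ∃ z', z' = s⁻¹ • z := ⟨_, rfl⟩
  rw [← hz']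
  have hz'u : h z' (ρ u) = 1 := by rw [hz', herm_smul_left hF, inv_mul_cancel₀ hzu]
  have hz'z : h z' z' = 0 := by rw [hz', herm_smul_left hF, herm_smul_right hF, hz, mul_zero, mul_zero]
  have hvu : h (ρ v) (ρ u) = 1 := herm_ratVec_one hF hK P hP h2 (by rw [polar_comm]; exact huv)
  have hbu : h (z' - ρ v) (ρ u) = 0 := by rw [h_sub_left hF, hz'u, hvu, sub_self]
  obtain ⟨b₁, b₂, hb⟩ := exists_decomp hF hK P hP h2 hδ hδ0 (z' - ρ v)
  have hb' := hbu
  rw [hb, herm_add_left hF, herm_smul_left hF, herm_ratVec hF hK P hP h2,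
    herm_ratVec hF hK P hP h2] at hb'
  obtain ⟨c1, c2⟩ := coord_zero hF hK h2 hδ hδ0 hb'
  obtain ⟨e, he⟩ := (hadd _ _ (hreal b₁ (by rw [polar_comm]; exact c1))
    (hskew' b₂ (by rw [polar_comm]; exact c2))).2 (ρ v) (hrat v hv) hvu
  rw [← hb, add_sub_cancel] at he
  have hesk : e + e ^ q = 0 := by
    have := he.1
    rw [herm_add_left hF, herm_add_right hF, herm_add_right hF, herm_smul_left hF, herm_smul_left hF,
      herm_smul_right hF, herm_smul_right hF, hz'z, huu, hz'u, ← herm_conj hF z' (ρ u), hz'u,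
      one_pow] at this
    linear_combination this
  have h1 := root_map hH ((hrat u hu).2 (-e) (by rw [q_neg hF]; linear_combination -hesk)) he
  rw [T_mulVec, herm_add_left hF, herm_smul_left hF, hz'u, huu] at h1
  convert h1 using 1
  module

omit hΩ hH in
/-- Rational vectors with prescribed polar products against an independent family. -/
theorem exists_polar_dual {m : ℕ} {v : Fin m → Ks} (hv : LinearIndependent K v) (c : Fin m → K) :
    ∃ x, ∀ i, polar ⇑Qr (v i) x = c i := by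
  have hQ := ratQuad_nondegenerate hF hK P hP h2
  let bs := Module.Basis.span hv
  obtain ⟨φ, hφ⟩ := LinearMap.exists_extend (bs.constr K c)
  obtain ⟨x, hx⟩ := (Forms.IsGoodForm.of_quadratic hQ).exists_vec φ
  refine ⟨x, fun i => ?_⟩
  have h1 := LinearMap.congr_fun hφ (bs i)
  rw [Module.Basis.constr_basis] at h1
  have h3 := hx (v i)
  rw [QuadraticMap.polarBilin_apply_apply] at h3
  rw [polar_comm, h3]
  simpa [bs] using h1

omit hΩ in
/-- An image of a rational vector escapes a small subspace. -/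
theorem exists_image_notMem {g : GLs} (hg : g ∈ H) {p : Vs} {u₀ : Ks} (hp : p = ↟g *ᵥ ρ u₀) (w : Ks)
    (W : Submodule F Vs) (hW : Module.finrank F W ≤ 3)
    (hspecial : Module.finrank F W ≤ 2 ∨ ∃ x ∈ W, h x p ≠ 0) :
    ∃ y, polar ⇑Qr u₀ y = 0 ∧ h (↟g *ᵥ ρ y) (ρ w) = 0 ∧ ↟g *ᵥ ρ y ∉ W := by
  classical
  have : Fintype K := Fintype.ofFinite K
  have hKF : Module.finrank K F = 2 := by
    have e := Module.natCard_eq_pow_finrank (K := K) (V := F)
    rw [hK, Nat.card_eq_fintype_card, hF] at e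
    exact (Nat.pow_right_injective (two_le_of_card_sq hF) e).symm
  let φ : Ks →ₗ[K] K × F :=
    { toFun := fun y => (polar ⇑Qr u₀ y, h (↟g *ᵥ ρ y) (ρ w))
      map_add' := fun y z => by
        rw [polar_add_right, ratVec_add, mulVec_add, herm_add_left hF]; rfl
      map_smul' := fun t y => by
        rw [polar_smul_right, ratVec_smul, mulVec_smul, herm_smul_left hF]; rfl }
  set Y := LinearMap.ker φ with hY
  have hdim : 3 ≤ Module.finrank K Y := by
    have e1 := φ.finrank_range_add_finrank_ker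
    have e2 := Submodule.finrank_le (LinearMap.range φ)
    rw [Module.finrank_prod, Module.finrank_self, hKF] at e2
    rw [Module.finrank_fintype_fun_eq_card, Fintype.card_fin, ← hY] at e1
    omega
  by_contra hno
  push Not at hno
  have hyW : ∀ y ∈ Y, ↟g *ᵥ ρ y ∈ W := fun y hy => by
    have e : φ y = 0 := hy
    exact hno y (congrArg Prod.fst e) (congrArg Prod.snd e)
  let bY := Module.finBasis K Y
  have hli : LinearIndependent K fun i => ((bY i : Y) : Ks) :=
    bY.linearIndependent.map' Y.subtype (Submodule.ker_subtype Y)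
  have hliF : LinearIndependent F fun i => (⟨_, hyW _ (bY i).2⟩ : W) := by
    rw [Fintype.linearIndependent_iff]
    intro c hc j
    obtain ⟨x, hx⟩ := exists_polar_dual hF hK P hP h2 hn hli (fun i => if i = j then 1 else 0)
    have e := congrArg (fun z : W => h (z : Vs) (↟g *ᵥ ρ x)) hc
    simp only [Submodule.coe_sum, Submodule.coe_smul, ← hermSesq_apply hF, map_sum, map_smul, smul_eq_mul,
      Submodule.coe_zero, map_zero] at e
    rw [Finset.sum_eq_single j (fun i _ hij => by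
      rw [hermSesq_apply, apply_K (hH hg), herm_ratVec hF hK P hP h2, hx, if_neg hij]; simp) (by simp),
      hermSesq_apply, apply_K (hH hg), herm_ratVec hF hK P hP h2, hx, if_pos rfl] at e
    simpa using e
  have hle := hliF.fintype_card_le_finrank
  rw [Fintype.card_fin] at hle
  rcases hspecial with hW2 | ⟨x, hxW, hxp⟩
  · omega
  have hspan := hliF.span_eq_top_of_card_eq_finrank' (by rw [Fintype.card_fin]; omega)
  refine hxp ?_
  let L : W →ₗ[F] F := (hermSesq hF n p).comp W.subtype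
  have hL : ∀ z : W, L z = h (z : Vs) p := fun z => by simp [L]
  have h0 : L ⟨x, hxW⟩ = 0 := by
    have hm : (⟨x, hxW⟩ : W) ∈ Submodule.span F (Set.range fun i => (⟨_, hyW _ (bY i).2⟩ : W)) :=
      hspan ▸ Submodule.mem_top
    refine (Submodule.span_le (p := LinearMap.ker L)).mpr ?_ hm
    rintro _ ⟨i, rfl⟩
    show L _ = 0
    rw [hL, hp, apply_K (hH hg), herm_ratVec hF hK P hP h2]
    have e : φ (bY i : Ks) = 0 := (bY i).2
    have e1 : polar ⇑Qr u₀ (bY i : Ks) = 0 := congrArg Prod.fst e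
    rw [polar_comm, e1]
    rfl
  rwa [hL] at h0

omit hΩ hH in
/-- A vector outside the span of three rational vectors pairs with their rational perpendicular. -/
theorem exists_pairing_perp {δ : F} (hδ : δ + δ ^ q = 0) (hδ0 : δ ≠ 0) {p₁ p₂ w : Ks} {a : Vs}
    (ha : a ∉ Submodule.span F (Set.range ![ρ p₁, ρ p₂, ρ w])) :
    ∃ b, polar ⇑Qr p₁ b = 0 ∧ polar ⇑Qr p₂ b = 0 ∧ polar ⇑Qr w b = 0 ∧ h a (ρ b) ≠ 0 := by
  by_contra hno
  push Not at hno
  refine ha ?_
  set W := Submodule.span F (Set.range ![ρ p₁, ρ p₂, ρ w]) with hW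
  have hgood := hermSesq_goodForm (n := n) hF
  rw [← hgood.perp_perp W]
  intro z hz
  obtain ⟨z₁, z₂, rfl⟩ := exists_decomp hF hK P hP h2 hδ hδ0 z
  have hsplit : ∀ r : Ks, ρ r ∈ W → polar ⇑Qr r z₁ = 0 ∧ polar ⇑Qr r z₂ = 0 := fun r hr => by
    have e := hz (ρ r) hr
    rw [hermSesq_apply] at e
    simp only [herm_add_left hF, herm_smul_left hF, herm_ratVec hF hK P hP h2] at e
    obtain ⟨e1, e2⟩ := coord_zero hF hK h2 hδ hδ0 e
    exact ⟨by rw [polar_comm]; exact e1, by rw [polar_comm]; exact e2⟩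
  obtain ⟨a1, a2⟩ := hsplit p₁ (Submodule.subset_span ⟨0, rfl⟩)
  obtain ⟨b1, b2⟩ := hsplit p₂ (Submodule.subset_span ⟨1, rfl⟩)
  obtain ⟨c1, c2⟩ := hsplit w (Submodule.subset_span ⟨2, rfl⟩)
  rw [hermSesq_apply, herm_add_right hF, herm_smul_right hF, hno z₁ a1 b1 c1, hno z₂ a2 b2 c2]
  ring

/-- A non-rational image of a rational singular vector gives a full root subgroup. -/
theorem exists_rat_root {g : GLs} (hg : g ∈ H) {u₀ : Ks} (hu : Qr u₀ = 0)
    (hirr : ∀ (l : F) (v : Ks), ↟g *ᵥ ρ u₀ ≠ l • ρ v) :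
    ∃ w, w ≠ 0 ∧ Qr w = 0 ∧ ρ w ∈ root q H := by
  classical
  have hQ := ratQuad_nondegenerate hF hK P hP h2
  have h2K := two_ne_K hF hK P hP h2
  obtain ⟨δ, hδ, hδ0⟩ := exists_skew_ne hF
  have hδq : δ ^ q = -δ := eq_neg_of_add_eq_zero_right hδ
  have h2q : (2 : F) ^ q = 2 := by rw [← qPowHom_apply hF, map_ofNat]
  obtain ⟨p, hp⟩ : ∃ p, p = ↟g *ᵥ ρ u₀ := ⟨_, rfl⟩
  obtain ⟨p₁, p₂, hdec⟩ := exists_decomp hF hK P hP h2 hδ hδ0 p
  have hp10 : p₁ ≠ 0 := fun e => hirr δ p₂ (by rw [← hp, hdec, e, ratVec_zero, zero_add])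
  have hind : ∀ c : K, p₂ ≠ c • p₁ := fun c e => hirr (1 + δ * c) p₁ (by
    rw [← hp, hdec, e, ratVec_smul]; module)
  have hli2 : LinearIndependent K ![p₁, p₂] := (LinearIndependent.pair_iff' hp10).mpr fun c e => hind c e.symm
  obtain ⟨hu', -⟩ : h (ρ u₀) (ρ u₀) = 0 ∧ True := ⟨herm_ratVec_zero hF hK P hP h2 hu, trivial⟩
  have hpp : h p p = 0 := by rw [hp, apply_K (hH hg)]; exact hu'
  have hperp : ∀ x, polar ⇑Qr p₁ x = 0 → polar ⇑Qr p₂ x = 0 → h (ρ x) p = 0 := by
    intro x hx1 hx2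
    rw [hdec, herm_add_right hF, herm_smul_right hF, herm_ratVec hF hK P hP h2,
      herm_ratVec hF hK P hP h2, polar_comm _ x p₁, polar_comm _ x p₂, hx1, hx2]
    simp
  by_cases hts : polar ⇑Qr p₁ p₁ = 0 ∧ polar ⇑Qr p₁ p₂ = 0 ∧ polar ⇑Qr p₂ p₂ = 0
  · -- a totally singular rational line
    obtain ⟨t11, t12, t22⟩ := hts
    have hQ1 : Qr p₁ = 0 := by
      rw [Orth.polar_self_eq] at t11; exact (mul_eq_zero.mp t11).resolve_left h2K
    have hQ2 : Qr p₂ = 0 := by
      rw [Orth.polar_self_eq] at t22; exact (mul_eq_zero.mp t22).resolve_left h2K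
    have hW : Module.finrank F ↥(Submodule.span F (Set.range ![ρ p₁, ρ p₂, ρ p₁])) ≤ 2 := by
      have e : Set.range ![ρ p₁, ρ p₂, ρ p₁] = Set.range ![ρ p₁, ρ p₂] := by
        simp only [Matrix.range_cons, Matrix.range_empty, Set.union_empty]
        rw [Set.union_comm {ρ p₂} {ρ p₁}, ← Set.union_assoc, Set.union_self]
      rw [e]
      simpa [Set.finrank] using finrank_range_le_card (R := F) (![ρ p₁, ρ p₂] : Fin 2 → Vs)
    obtain ⟨y, huy, haw, hanot⟩ := exists_image_notMem hF hK P hP h2 hH hn hg hp p₁ _ (hW.trans (by omega))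
      (Or.inl hW)
    obtain ⟨b, hb1, hb2, -, hab⟩ := exists_pairing_perp hF hK P hP h2 hn hδ hδ0 hanot
    obtain ⟨huu, hyu, hmemX, -⟩ := E_ratVec_mem hF hK P hP h2 hu huy
    obtain ⟨a, ha⟩ : ∃ a, a = ↟g *ᵥ ρ y := ⟨_, rfl⟩
    rw [← ha] at haw hab
    have hap : h a p = 0 := by rw [ha, hp, apply_K (hH hg)]; exact hyu
    have hX : E hF p a hpp hap ∈ H := by
      subst hp ha
      rw [← conj_E hF h2 (hH hg) huu hyu]
      exact H.mul_mem (H.mul_mem hg (hΩ hmemX)) (H.inv_mem hg)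
    have hwp : h (ρ p₁) p = 0 := hperp p₁ t11 (by rw [polar_comm]; exact t12)
    have hbridge : ∀ lam : K, ∃ Z ∈ H, ∀ x, ↟Z *ᵥ x = x + h x (ρ p₁) • ((-((lam : F) * h (ρ b) a)) • p) -
        h x ((-((lam : F) * h (ρ b) a)) • p) • ρ p₁ := by
      intro lam
      have hb1' : polar ⇑Qr p₁ (lam • b) = 0 := by rw [polar_smul_right, hb1, smul_zero]
      have hb2' : polar ⇑Qr p₂ (lam • b) = 0 := by rw [polar_smul_right, hb2, smul_zero]
      obtain ⟨hw', hb', hmemY, -⟩ := E_ratVec_mem hF hK P hP h2 hQ1 hb1'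
      obtain ⟨Z, hZ, hZx⟩ := bridge_mem hF h2 hpp hap hw' hb' hwp haw (hperp _ hb1' hb2') hX (hΩ hmemY)
      refine ⟨Z, hZ, fun x => ?_⟩
      have e : (-((lam : F) * h (ρ b) a)) ^ q = -((lam : F) * h a (ρ b)) := by
        rw [q_neg hF, mul_pow, herm_conj hF, (fixed_iff hK _).mpr lam.2]
      rw [hZx, herm_smul_right hF, e, ratVec_smul, herm_smul_left hF, herm_smul_right hF,
        (fixed_iff hK _).mpr lam.2]
      module
    set s := -h (ρ b) a with hs
    have hs0 : s ≠ 0 := neg_ne_zero.mpr fun e => hab (h_symm hF e)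
    have hp1p1 : h (ρ p₁) (ρ p₁) = 0 := herm_ratVec_zero hF hK P hP h2 hQ1
    refine ⟨p₁, hp10, hQ1, hp1p1, fun c hc => ?_⟩
    have hcq : c ^ q = -c := eq_neg_of_add_eq_zero_right hc
    by_cases hsd : (s * δ) ^ q = s * δ
    · -- the commutator is a transvection up to a rational element
      have hsq : s ^ q = -s := by
        rw [mul_pow, hδq] at hsd
        refine mul_right_cancel₀ hδ0 ?_
        linear_combination -hsd
      obtain ⟨lam, hlam⟩ : ∃ lam : K, (lam : F) = c / (2 * s) := ⟨⟨_, (fixed_iff hK _).mp (by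
        rw [div_pow, mul_pow, h2q, hcq, hsq, mul_neg, neg_div_neg_eq])⟩, rfl⟩
      obtain ⟨Z, hZ, hZx⟩ := hbridge lam
      obtain ⟨k, hk⟩ : ∃ k : K, (k : F) = -((lam : F) * (s * δ)) := ⟨⟨_, (fixed_iff hK _).mp (by
        rw [q_neg hF, mul_pow, hsd, (fixed_iff hK _).mpr lam.2])⟩, rfl⟩
      obtain ⟨he1, he2, hmemE, -⟩ := E_ratVec_mem hF hK P hP h2 (a := k • p₂) hQ1
        (by rw [polar_smul_right, t12, smul_zero])
      convert H.mul_mem hZ (hΩ hmemE) using 1
      refine gl_ext fun x => ?_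
      have h21 : h (ρ p₂) (ρ p₁) = 0 := herm_ratVec_perp hF hK P hP h2 (by rw [polar_comm]; exact t12)
      have h22 : h (ρ p₂) (ρ p₂) = 0 := herm_ratVec_zero hF hK P hP h2 hQ2
      have h12 : h (ρ p₁) (ρ p₂) = 0 := h_symm hF h21
      have hc2 : c = 2 * s * lam := by rw [hlam]; field_simp
      rw [T_mulVec, gl_mulVec, E_mulVec hF h2, hZx, show -((lam : F) * h (ρ b) a) = (lam : F) * s by rw [hs]; ring,
        hdec]
      simp only [half, ratVec_smul, herm_add_left hF, herm_add_right hF, herm_smul_left hF, herm_smul_right hF,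
        mul_pow, q_add hF, q_neg hF, q_zero hF, mulVec_add, (fixed_iff hK _).mpr lam.2, (fixed_iff hK _).mpr k.2, hsq, hδq, hp1p1, h12, h21, h22, hc2, hk,
        mul_zero, add_zero, neg_zero, zero_div, zero_mul]
      module
    · obtain ⟨f, hf⟩ := exists_polar_dual hF hK P hP h2 hn hli2 ![0, 1]
      have hf1 : polar ⇑Qr p₁ f = 0 := hf 0
      have hf2 : polar ⇑Qr p₂ f = 1 := hf 1
      have hd0 : s * δ - (s * δ) ^ q ≠ 0 := sub_ne_zero.mpr fun e => hsd e.symm
      obtain ⟨lam, hlam⟩ : ∃ lam : K, (lam : F) = c / (s * δ - (s * δ) ^ q) := ⟨⟨_, (fixed_iff hK _).mp (by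
        rw [div_pow, q_sub hF, pow_q_pow_q hF, hcq, ← neg_sub (s * δ), neg_div_neg_eq])⟩, rfl⟩
      obtain ⟨Z, hZ, hZx⟩ := hbridge 1
      rw [show -(((1 : K) : F) * h (ρ b) a) = s by rw [hs]; simp] at hZx
      obtain ⟨hw'', hz', hmemZ, -⟩ := E_ratVec_mem hF hK P hP h2 (a := lam • f) hQ1
        (by rw [polar_smul_right, hf1, smul_zero])
      have hββ : h (s • p) (s • p) = 0 := by rw [herm_smul_left hF, herm_smul_right hF, hpp, mul_zero, mul_zero]
      have hβw : h (s • p) (ρ p₁) = 0 := by rw [herm_smul_left hF, h_symm hF hwp, mul_zero]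
      have h1 := transvection_mem hF h2 hw'' hβw hββ hz' ⟨Z, hZ, hZx⟩ (hΩ hmemZ)
      have hval : h (s • p) (ρ (lam • f)) = s * δ * lam := by
        rw [herm_smul_left hF, hdec, herm_add_left hF, herm_smul_left hF, herm_ratVec hF hK P hP h2,
          herm_ratVec hF hK P hP h2, polar_smul_right, polar_smul_right, hf1, hf2]
        simp
        ring
      have hval' : h (ρ (lam • f)) (s • p) = (s * δ) ^ q * lam := by
        rw [← herm_conj hF, hval, mul_pow, (fixed_iff hK _).mpr lam.2]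
      rw [hval, hval', ← sub_mul, hlam, mul_div_cancel₀ _ hd0] at h1
      exact h1
  -- the general case
  obtain ⟨w, hw0, hw, hw1, hw2, hli3⟩ : ∃ w, w ≠ 0 ∧ Qr w = 0 ∧ polar ⇑Qr p₁ w = 0 ∧ polar ⇑Qr p₂ w = 0 ∧
      LinearIndependent K ![p₁, p₂, w] := by
    have hker : ∃ x, ∀ c d : K, polar ⇑Qr p₁ (c • p₁ + d • p₂) = 0 → polar ⇑Qr p₂ (c • p₁ + d • p₂) = 0 →
        polar ⇑Qr x (c • p₁ + d • p₂) = 0 → c • p₁ + d • p₂ = 0 := by
      obtain ⟨m11, hm11⟩ : ∃ m, polar ⇑Qr p₁ p₁ = m := ⟨_, rfl⟩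
      obtain ⟨m12, hm12⟩ : ∃ m, polar ⇑Qr p₁ p₂ = m := ⟨_, rfl⟩
      obtain ⟨m22, hm22⟩ : ∃ m, polar ⇑Qr p₂ p₂ = m := ⟨_, rfl⟩
      have hm21 : polar ⇑Qr p₂ p₁ = m12 := by rw [polar_comm, hm12]
      rw [hm11, hm12, hm22] at hts
      obtain ⟨A, B, hAB, hker⟩ : ∃ A B : K, (A ≠ 0 ∨ B ≠ 0) ∧ ∀ c d : K, c * m11 + d * m12 = 0 →
          c * m12 + d * m22 = 0 → c * B = d * A := by
        by_cases hr : m12 = 0 ∧ m22 = 0
        · refine ⟨0, 1, Or.inr one_ne_zero, fun c d e _ => ?_⟩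
          have hm : m11 ≠ 0 := fun e' => hts ⟨e', hr.1, hr.2⟩
          rw [hr.1, mul_zero, add_zero] at e
          rw [(mul_eq_zero.mp e).resolve_right hm, zero_mul, mul_zero]
        · refine ⟨m22, -m12, ?_, fun c d _ e => by linear_combination -e⟩
          by_contra e
          push Not at e
          exact hr ⟨neg_eq_zero.mp e.2, e.1⟩
      have hr0 : A • p₁ + B • p₂ ≠ 0 := fun e => by
        obtain ⟨e1, e2⟩ := LinearIndependent.pair_iff.mp hli2 A B e
        rcases hAB with h' | h'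
        exacts [h' e1, h' e2]
      obtain ⟨x, hx⟩ := FormMax.OrthSL.exists_dual_one hQ hr0
      refine ⟨x, fun c d e1 e2 e3 => ?_⟩
      rw [polar_add_right, polar_smul_right, polar_smul_right, hm11, hm12, smul_eq_mul, smul_eq_mul] at e1
      rw [polar_add_right, polar_smul_right, polar_smul_right, hm21, hm22, smul_eq_mul, smul_eq_mul] at e2
      have hl := hker c d e1 e2
      obtain ⟨t, rfl, rfl⟩ : ∃ t, c = t * A ∧ d = t * B := by
        rcases hAB with h' | h'
        · exact ⟨c / A, (div_mul_cancel₀ c h').symm, by field_simp; linear_combination -hl⟩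
        · exact ⟨d / B, by field_simp; linear_combination hl, (div_mul_cancel₀ d h').symm⟩
      rw [mul_smul, mul_smul, ← smul_add] at e3 ⊢
      rw [polar_smul_right, polar_comm, hx, smul_eq_mul, mul_one] at e3
      rw [e3, zero_smul]
    obtain ⟨x, hx⟩ := hker
    obtain ⟨w, hw0, hw, hwc⟩ := FormMax.OrthSL.exists_singular_conds (Q := Qr) h2K ![p₁, p₂, x]
      (by simp; omega)
    refine ⟨w, hw0, hw, hwc 0, hwc 1, ?_⟩
    rw [Fintype.linearIndependent_iff]
    intro t ht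
    simp [Fin.sum_univ_three] at ht
    have ht2 : t 2 = 0 := by
      by_contra hne
      have e : w = (-(t 0) / t 2) • p₁ + (-(t 1) / t 2) • p₂ := by
        rw [div_eq_inv_mul, div_eq_inv_mul, mul_smul, mul_smul, ← smul_add,
          show -(t 0) • p₁ + -(t 1) • p₂ = t 2 • w by linear_combination (norm := module) -ht,
          smul_smul, inv_mul_cancel₀ hne, one_smul]
      have k0 : polar ⇑Qr p₁ w = 0 := hwc 0
      have k1 : polar ⇑Qr p₂ w = 0 := hwc 1
      have k2 : polar ⇑Qr x w = 0 := hwc 2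
      rw [e] at k0 k1 k2
      exact hw0 (e.trans (hx _ _ k0 k1 k2))
    rw [ht2, zero_smul, add_zero] at ht
    obtain ⟨e0, e1⟩ := LinearIndependent.pair_iff.mp hli2 _ _ ht
    intro i
    fin_cases i
    exacts [e0, e1, ht2]
  have hW : Module.finrank F ↥(Submodule.span F (Set.range ![ρ p₁, ρ p₂, ρ w])) ≤ 3 := by
    simpa [Set.finrank] using finrank_range_le_card (R := F) (![ρ p₁, ρ p₂, ρ w] : Fin 3 → Vs)
  have hspecial : ∃ x ∈ Submodule.span F (Set.range ![ρ p₁, ρ p₂, ρ w]), h x p ≠ 0 := by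
    by_contra hno
    push Not at hno
    refine hts ?_
    have k1 := hno (ρ p₁) (Submodule.subset_span ⟨0, rfl⟩)
    have k2 := hno (ρ p₂) (Submodule.subset_span ⟨1, rfl⟩)
    rw [hdec, herm_add_right hF, herm_smul_right hF, herm_ratVec hF hK P hP h2,
      herm_ratVec hF hK P hP h2, hδq, neg_mul, ← mul_neg, ← NegMemClass.coe_neg] at k1 k2
    obtain ⟨a1, a2⟩ := coord_zero hF hK h2 hδ hδ0 k1
    obtain ⟨-, b2⟩ := coord_zero hF hK h2 hδ hδ0 k2
    exact ⟨a1, neg_eq_zero.mp a2, neg_eq_zero.mp b2⟩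
  obtain ⟨y, huy, haw, hanot⟩ := exists_image_notMem hF hK P hP h2 hH hn hg hp w _ hW (Or.inr hspecial)
  obtain ⟨b, hb1, hb2, hbw, hab⟩ := exists_pairing_perp hF hK P hP h2 hn hδ hδ0 hanot
  obtain ⟨f₁, hf₁⟩ := exists_polar_dual hF hK P hP h2 hn hli3 ![1, 0, 0]
  obtain ⟨f₂, hf₂⟩ := exists_polar_dual hF hK P hP h2 hn hli3 ![0, 1, 0]
  have hf₁1 : polar ⇑Qr p₁ f₁ = 1 := hf₁ 0
  have hf₁2 : polar ⇑Qr p₂ f₁ = 0 := hf₁ 1
  have hw3 : polar ⇑Qr f₁ w = 0 := by rw [polar_comm]; exact hf₁ 2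
  have hf₂1 : polar ⇑Qr p₁ f₂ = 0 := hf₂ 0
  have hf₂2 : polar ⇑Qr p₂ f₂ = 1 := hf₂ 1
  have hw4 : polar ⇑Qr f₂ w = 0 := by rw [polar_comm]; exact hf₂ 2
  obtain ⟨a, ha⟩ : ∃ a, a = ↟g *ᵥ ρ y := ⟨_, rfl⟩
  rw [← ha] at haw hab
  -- the first commutator
  obtain ⟨hu', hy'', hmemX, -⟩ := E_ratVec_mem hF hK P hP h2 hu huy
  obtain ⟨hw', hb', hmemY, -⟩ := E_ratVec_mem hF hK P hP h2 hw hbw
  have hap : h a p = 0 := by rw [ha, hp, apply_K (hH hg)]; exact hy''
  have hX : E hF p a hpp hap ∈ H := by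
    subst hp ha
    rw [← conj_E hF h2 (hH hg) hu' hy'']
    exact H.mul_mem (H.mul_mem hg (hΩ hmemX)) (H.inv_mem hg)
  have hwp : h (ρ w) p = 0 := hperp w hw1 hw2
  obtain ⟨Z, hZ, hZx⟩ := bridge_mem hF h2 hpp hap hw' hb' hwp haw (hperp b hb1 hb2) hX (hΩ hmemY)
  -- the second commutator
  set β := (-(h (ρ b) a)) • p with hβ
  have hββ : h β β = 0 := by rw [hβ, herm_smul_left hF, herm_smul_right hF, hpp, mul_zero, mul_zero]
  have hβw : h β (ρ w) = 0 := by rw [hβ, herm_smul_left hF, h_symm hF hwp, mul_zero]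
  have hba : h (ρ b) a ≠ 0 := fun e => hab (h_symm hF e)
  have hba2 : (-(h (ρ b) a)) ^ q = -(h a (ρ b)) := by rw [q_neg hF, herm_conj hF]
  refine ⟨w, hw0, hw, hw', fun c hc => ?_⟩
  obtain ⟨α, β', hαβ⟩ : ∃ α β' : K, (c / 2) / (-(h (ρ b) a)) = (α : F) + δ * (β' : F) := by
    set k := (c / 2) / (-(h (ρ b) a))
    have hδq : δ ^ q = -δ := eq_neg_of_add_eq_zero_right hδ
    have h2q : (2 : F) ^ q = 2 := by rw [← qPowHom_apply hF, map_ofNat]
    refine ⟨⟨(k + k ^ q) / 2, (fixed_iff hK _).mp ?_⟩, ⟨(k - k ^ q) / (2 * δ), (fixed_iff hK _).mp ?_⟩, ?_⟩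
    · rw [div_pow, q_add hF, pow_q_pow_q hF, h2q, add_comm]
    · rw [div_pow, q_sub hF, pow_q_pow_q hF, mul_pow, h2q, hδq]
      field_simp
      ring
    · show k = (k + k ^ q) / 2 + δ * ((k - k ^ q) / (2 * δ))
      field_simp
      ring
  set zK := α • f₁ + β' • f₂ with hzK
  have hwz : polar ⇑Qr w zK = 0 := by
    simp [hzK, polar_add_right, polar_smul_right, polar_comm (⇑Qr) w, hw3, hw4]
  obtain ⟨hw'', hz', hmemZ, -⟩ := E_ratVec_mem hF hK P hP h2 hw hwz
  have h1 := transvection_mem hF h2 hw' hβw hββ hz' ⟨Z, hZ, fun x => by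
    rw [hZx, hβ, herm_smul_right hF, hba2]
    module⟩ (hΩ hmemZ)
  have hval : h β (ρ zK) = c / 2 := by
    rw [hβ, herm_smul_left hF, hdec, herm_add_left hF, herm_smul_left hF, herm_ratVec hF hK P hP h2,
      herm_ratVec hF hK P hP h2]
    have i1 : polar ⇑Qr p₁ zK = α := by simp [hzK, polar_add_right, polar_smul_right, hf₁1, hf₂1]
    have i2 : polar ⇑Qr p₂ zK = β' := by simp [hzK, polar_add_right, polar_smul_right, hf₁2, hf₂2]
    rw [i1, i2, ← hαβ, mul_div_cancel₀ _ (neg_ne_zero.mpr hba)]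
  have hcq : c ^ q = -c := eq_neg_of_add_eq_zero_right hc
  have hval' : h (ρ zK) β = -(c / 2) := by
    rw [← herm_conj hF, hval, div_pow, hcq, show (2 : F) ^ q = 2 by rw [← qPowHom_apply hF, map_ofNat],
      neg_div]
  rw [hval, hval', sub_neg_eq_add, ← two_mul, mul_div_cancel₀ _ h2] at h1
  exact h1

omit hΩ in
/-- An element carrying every rational singular vector to a multiple of a rational one is rational up
to a scalar. -/
theorem mem_of_rat {g : GLs} (hg : g ∈ H)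
    (hrat : ∀ u, Qr u = 0 → ∃ (l : F) (v : Ks), ↟g *ᵥ ρ u = l • ρ v) :
    g ∈ Cfsg.Geo.subfieldSubgroup K P := by
  have hQ := ratQuad_nondegenerate hF hK P hP h2
  have h2K := two_ne_K hF hK P hP h2
  obtain ⟨e, he0, he⟩ := Orth.exists_singular h2K hQ (by simp; omega)
  obtain ⟨l, v, hl⟩ := hrat e he
  have hl0 : l ≠ 0 := fun e0 => he0 (ratVec_eq_zero.mp (show ρ e = 0 by
    rw [← inv_mulVec_mulVec g (ρ e), hl, e0, zero_smul, mulVec_zero]))
  let S : Ks → Prop := fun x => ∃ y : Ks, ↟g *ᵥ ρ x = l • ρ y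
  have hS : ∀ x, x ≠ 0 → Qr x = 0 → S x := by
    intro x hx0 hx
    obtain ⟨w, hw, hew, hxw⟩ := FormMax.OrthSL.exists_common_partner hQ h2K (by simp; omega) he0 he hx0
    obtain ⟨m, w', hm⟩ := hrat w hw
    obtain ⟨k, x', hk⟩ := hrat x hx
    have h1 : h (↟g *ᵥ ρ e) (↟g *ᵥ ρ w) = 1 := by
      rw [apply_K (hH hg)]; exact herm_ratVec_one hF hK P hP h2 hew
    have h3 : h (↟g *ᵥ ρ x) (↟g *ᵥ ρ w) ∈ K := by rw [apply_K (hH hg)]; exact hP x w
    rw [hl, hm, herm_smul_left hF, herm_smul_right hF] at h1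
    rw [hk, hm, herm_smul_left hF, herm_smul_right hF] at h3
    have hne : h (↟g *ᵥ ρ x) (↟g *ᵥ ρ w) ≠ 0 := by
      rw [apply_K (hH hg), herm_ratVec hF hK P hP h2]; exact fun e => hxw (Subtype.ext e)
    rw [hk, hm, herm_smul_left hF, herm_smul_right hF] at hne
    have h1ne : h (ρ v) (ρ w') ≠ 0 := fun e => by rw [e, mul_zero, mul_zero] at h1; exact zero_ne_one h1
    have hxne : h (ρ x') (ρ w') ≠ 0 := right_ne_zero_of_mul (right_ne_zero_of_mul hne)
    have hkl : k / l ∈ K := by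
      have : k / l = (k * (m ^ q * h (ρ x') (ρ w'))) * h (ρ v) (ρ w') / h (ρ x') (ρ w') := by
        rw [div_eq_iff hl0, div_mul_eq_mul_div, eq_div_iff hxne]
        linear_combination (-(k * h (ρ x') (ρ w'))) * h1
      rw [this]
      exact K.div_mem (K.mul_mem h3 (hP v w')) (hP x' w')
    refine ⟨(⟨k / l, hkl⟩ : K) • x', ?_⟩
    rw [hk, ratVec_smul, smul_smul, mul_div_cancel₀ _ hl0]
  have hS' : ∀ x, Qr x = 0 → S x := fun x hx => by
    rcases eq_or_ne x 0 with rfl | hx0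
    · exact ⟨0, by rw [ratVec_zero, mulVec_zero, smul_zero]⟩
    · exact hS x hx0 hx
  refine mem_subfield_of_maps hl0 fun x => ?_
  rcases eq_or_ne x 0 with rfl | hx0
  · exact hS' 0 (QuadraticMap.map_zero _)
  obtain ⟨w, hw, -, hxw⟩ := FormMax.OrthSL.exists_common_partner hQ h2K (by simp; omega) he0 he hx0
  set c := Qr x / polar ⇑Qr x w with hc
  have h1 : Qr (x + (-c) • w) = 0 := by
    rw [QuadraticMap.map_add (⇑Qr), QuadraticMap.map_smul, polar_smul_right, hw, hc, smul_eq_mul,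
      smul_eq_mul]
    field_simp
    ring
  obtain ⟨y₁, hy₁⟩ := hS' _ h1
  obtain ⟨y₂, hy₂⟩ := hS' w hw
  refine ⟨y₁ + c • y₂, ?_⟩
  rw [show x = (x + (-c) • w) + c • w by module, ratVec_add, mulVec_add, hy₁, ratVec_smul c w,
    mulVec_smul, hy₂, ratVec_add, ratVec_smul, smul_comm (c : F) l, smul_add]

omit hΩ hH in
/-- The orthogonal subfield group is maximal. -/
theorem isMaximalIn_orthSubfield : Cfsg.Geo.IsMaximalIn (suGL n F q) Ω := by
  have hQ := ratQuad_nondegenerate hF hK P hP h2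
  have h2K := two_ne_K hF hK P hP h2
  refine ⟨lt_of_le_of_ne inf_le_right fun heq => ?_, fun M hΩM hMS => ?_⟩
  · obtain ⟨u, hu0, hu⟩ := Orth.exists_singular h2K hQ (by simp; omega)
    obtain ⟨v, hv, huv⟩ := Orth.exists_partner hQ hu0 hu
    obtain ⟨δ, hδ, hδ0⟩ := exists_skew_ne hF
    have huu := herm_ratVec_zero hF hK P hP h2 hu
    obtain ⟨l, hl0, hl⟩ := exists_scale_of_mem (K := K) (P := P)
      (heq.ge (T_mem hF (ρ u) huu hδ)).1
    obtain ⟨a, ha⟩ := hl u
    obtain ⟨b, hb⟩ := hl v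
    have hvv := herm_ratVec_zero hF hK P hP h2 hv
    have hvu : h (ρ v) (ρ u) = 1 := herm_ratVec_one hF hK P hP h2 (by rw [polar_comm]; exact huv)
    have huv' : h (ρ u) (ρ v) = 1 := herm_ratVec_one hF hK P hP h2 huv
    have h1 := congrArg (fun y => h y (ρ v)) ha
    have h3 := congrArg (fun y => h y (ρ v)) hb
    simp only [T_mulVec, herm_add_left hF, herm_smul_left hF, huu, huv', hvu, hvv, mul_zero,
      mul_one, zero_mul, add_zero, zero_add] at h1 h3
    have hlK : l ∈ K := by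
      rw [eq_inv_of_mul_eq_one_left h1.symm]; exact K.inv_mem (hP a v)
    have hδK : δ ∈ K := by rw [h3]; exact K.mul_mem hlK (hP b v)
    have := (fixed_iff hK δ).mpr hδK
    rw [this, ← two_mul] at hδ
    exact hδ0 ((mul_eq_zero.mp hδ).resolve_left h2)
  by_cases hle : M ≤ Cfsg.Geo.subfieldSubgroup K P
  · exact Or.inl (le_antisymm (le_inf hle hMS) hΩM)
  right
  obtain ⟨g, hgM, hg⟩ := SetLike.not_le_iff_exists.mp hle
  obtain ⟨u₀, hu₀, hirr⟩ : ∃ u₀, Qr u₀ = 0 ∧ ∀ (l : F) (v : Ks), ↟g *ᵥ ρ u₀ ≠ l • ρ v := by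
    by_contra hno
    push Not at hno
    exact hg (mem_of_rat hF hK P hP h2 hMS hn hgM hno)
  obtain ⟨w, hw0, hw, hwR⟩ := exists_rat_root hF hK P hP h2 hΩM hMS hn hgM hu₀ hirr
  exact eq_suGL_of_rat_root hF hK P hP h2 hΩM hMS hn fun x hx =>
    root_all_rat hF hK P hP h2 hΩM hMS hn hw0 hw hwR hx

end Cfsg.Agent.Lib.SubfieldMax.UnitaryOrth
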