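import Cfsg.Agent.Lib.SubfieldMax.LinearSubfield
import Cfsg.Agent.Lib.UnitaryMax.Basic
import Cfsg.Agent.Lib.Forms.Witt

/-!
The symplectic subfield subgroup of a special unitary group is maximal: singular vectors are `a + ω b`
with rational orthogonal `a, b`, and rational transvections are transitive on such pairs.
-/

set_option autoImplicit false
set_option linter.unusedSectionVars false

namespace Cfsg.Agent.Lib.SubfieldMax

open Matrix Cfsg.Agent.Lib Cfsg.Agent.Lib.Forms

/-- A vector on which two non-zero functionals are both non-zero. -/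
theorem exists_both_ne {R V : Type*} [Field R] [AddCommGroup V] [Module R V] {f g : V →ₗ[R] R}
    (hf : f ≠ 0) (hg : g ≠ 0) : ∃ x, f x ≠ 0 ∧ g x ≠ 0 := by
  by_contra hno
  push Not at hno
  obtain ⟨r₁, h1⟩ : ∃ r, f r ≠ 0 := by
    by_contra h; push Not at h; exact hf (LinearMap.ext h)
  obtain ⟨r₂, h2⟩ : ∃ r, g r ≠ 0 := by
    by_contra h; push Not at h; exact hg (LinearMap.ext h)
  have e1 := hno r₁ h1
  have e2 : f r₂ = 0 := by by_contra h; exact h2 (hno r₂ h)
  have := hno (r₁ + r₂) (by rwa [map_add, e2, add_zero])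
  rw [map_add, e1, zero_add] at this
  exact h2 this

variable {F : Type*} [Field F] [Fintype F] {n q : ℕ} {K : Subfield F} {ζ : F} {P : GL (Fin n) F}
  {M : Subgroup (GL (Fin n) F)}

local notation "Ks" => (Fin n → K)
local notation "act" g:max x:max => Matrix.mulVec (g : Matrix (Fin n) (Fin n) F) x
local notation "hh" => Cfsg.hermForm n F q

/-- The data of the statement. -/
structure IsSympStructure (n q : ℕ) (F : Type*) [Field F] [Fintype F] (K : Subfield F) (ζ : F)
    (P : GL (Fin n) F) : Prop where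
  card : Fintype.card F = q ^ 2
  cardK : Nat.card K = q
  ne : ζ ≠ 0
  skew : ζ + ζ ^ q = 0
  rat : ∀ u v : Fin n → K, ζ * Cfsg.hermForm n F q (ratVec K P u) (ratVec K P v) ∈ K
  alt : ∀ u : Fin n → K, Cfsg.hermForm n F q (ratVec K P u) (ratVec K P u) = 0

namespace IsSympStructure

variable (hS : IsSympStructure n q F K ζ P)
include hS

theorem pow_q_coe (k : K) : (k : F) ^ q = k := by
  haveI : Fintype K := Fintype.ofFinite K
  have h := FiniteField.pow_card k
  rw [← Nat.card_eq_fintype_card, hS.cardK] at h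
  exact congrArg Subtype.val h

/-- The alternating form on the rational coordinates. -/
noncomputable def sB : LinearMap.BilinForm K (Fin n → K) :=
  LinearMap.mk₂ K (fun u v => (⟨ζ * hh (ratVec K P u) (ratVec K P v), hS.rat u v⟩ : K))
    (fun u v w => Subtype.ext (by
      show ζ * hh (ratVec K P (u + v)) _ = _ + _
      rw [ratVec_add, herm_add_left hS.card, mul_add]))
    (fun c u w => Subtype.ext (by
      show ζ * hh (ratVec K P (c • u)) _ = (c : F) * _
      rw [ratVec_smul, herm_smul_left hS.card, mul_left_comm]))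
    (fun u v w => Subtype.ext (by
      show ζ * hh _ (ratVec K P (v + w)) = _ + _
      rw [ratVec_add, herm_add_right hS.card, mul_add]))
    (fun c u w => Subtype.ext (by
      show ζ * hh _ (ratVec K P (c • w)) = (c : F) * _
      rw [ratVec_smul, herm_smul_right hS.card, hS.pow_q_coe, mul_left_comm]))

theorem coe_sB (u v : Ks) : (hS.sB u v : F) = ζ * hh (ratVec K P u) (ratVec K P v) := rfl

theorem herm_rat (u v : Ks) : hh (ratVec K P u) (ratVec K P v) = (hS.sB u v : F) / ζ := by
  rw [coe_sB, mul_div_cancel_left₀ _ hS.ne]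

theorem sB_self (u : Ks) : hS.sB u u = 0 := Subtype.ext (by rw [coe_sB, hS.alt, mul_zero]; rfl)

theorem sB_comm (u v : Ks) : hS.sB u v = - hS.sB v u := by
  have h := hS.sB_self (u + v)
  simp only [map_add, LinearMap.add_apply, hS.sB_self, zero_add, add_zero] at h
  exact eq_neg_of_add_eq_zero_right h

theorem sB_good : IsGoodForm (σ := RingHom.id K) hS.sB (-1) where
  eps_sq := by simp
  invol _ := rfl
  herm x y := by rw [RingHom.id_apply, neg_one_mul]; exact hS.sB_comm y x
  nondeg x hx := by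
    by_contra hne
    obtain ⟨v, hv⟩ := UnitaryMax.exists_h_ne hS.card (mt ratVec_eq_zero.mp hne : ratVec K P x ≠ 0)
    let L : (Fin n → F) →ₗ[F] F :=
      { toFun := fun z => hh z (ratVec K P x)
        map_add' := fun a b => herm_add_left hS.card a b _
        map_smul' := fun c a => herm_smul_left hS.card c a _ }
    have hL : L = 0 := ext_ratVec (K := K) (P := P) fun u => by
      show hh (ratVec K P u) (ratVec K P x) = 0
      rw [hS.herm_rat, hS.sB_comm, hx]
      simp
    exact hv (UnitaryMax.h_symm hS.card (LinearMap.congr_fun hL v))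
  trace a := ⟨0, by simp [hS.sB_self]⟩

theorem exists_sB_eq (c : Ks) : ∃ z, ∀ u, hS.sB z u = c ⬝ᵥ u :=
  hS.sB_good.exists_vec
    { toFun := fun u => c ⬝ᵥ u
      map_add' := fun u v => dotProduct_add c u v
      map_smul' := fun k u => dotProduct_smul k c u }

theorem sB_ne_zero {a : Ks} (ha : a ≠ 0) : hS.sB a ≠ 0 := fun e =>
  ha (hS.sB_good.nondeg a fun y => by rw [e]; rfl)

variable {ω : F} (hω : ω ^ q ≠ ω)

include hω in
theorem omega_notMem : ω ∉ K := fun h => hω (hS.pow_q_coe ⟨ω, h⟩)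

include hω in
theorem exists_coords (x : Fin n → F) : ∃ a b : Ks, x = ratVec K P a + ω • ratVec K P b := by
  have hbij : Function.Bijective fun p : K × K => (p.1 : F) + ω * p.2 := by
    refine (Nat.bijective_iff_injective_and_card _).mpr ⟨fun p p' e => ?_, ?_⟩
    · have h2 : (p.2 : F) = p'.2 := by
        by_contra hne
        refine hS.omega_notMem hω ?_
        rw [show ω = ((p'.1 : F) - p.1) / ((p.2 : F) - p'.2) by
          rw [eq_div_iff (sub_ne_zero.mpr hne)]; linear_combination e]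
        exact K.div_mem (K.sub_mem p'.1.2 p.1.2) (K.sub_mem p.2.2 p'.2.2)
      have h1 : (p.1 : F) = p'.1 := by
        have e' : (p.1 : F) + ω * p.2 = (p'.1 : F) + ω * p'.2 := e
        rw [h2] at e'
        exact add_right_cancel e'
      exact Prod.ext (Subtype.ext h1) (Subtype.ext h2)
    · rw [Nat.card_prod, hS.cardK, Nat.card_eq_fintype_card, hS.card, sq]
  choose p hp using fun i => hbij.2 ((((P⁻¹ : GL (Fin n) F) : Matrix (Fin n) (Fin n) F) *ᵥ x) i)
  refine ⟨fun i => (p i).1, fun i => (p i).2, ?_⟩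
  rw [ratVec, ratVec, ← mulVec_smul, ← mulVec_add,
    show ((fun i => ((p i).1 : F)) + ω • fun i => ((p i).2 : F))
      = ((P⁻¹ : GL (Fin n) F) : Matrix (Fin n) (Fin n) F) *ᵥ x from funext hp,
    mulVec_mulVec, Units.mul_inv, one_mulVec]

theorem herm_pair (a b : Ks) : hh (ratVec K P a + ω • ratVec K P b) (ratVec K P a + ω • ratVec K P b)
    = (ω ^ q - ω) * ((hS.sB a b : F) / ζ) := by
  simp only [herm_add_left hS.card, herm_add_right hS.card, herm_smul_left hS.card, herm_smul_right hS.card,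
    hS.herm_rat, hS.sB_self, hS.sB_comm b a]
  push_cast
  ring

include hω in
theorem sB_eq_zero_of_singular {a b : Ks}
    (h : hh (ratVec K P a + ω • ratVec K P b) (ratVec K P a + ω • ratVec K P b) = 0) : hS.sB a b = 0 := by
  rw [hS.herm_pair, mul_eq_zero, div_eq_zero_iff] at h
  rcases h with h | h | h
  · exact absurd (sub_eq_zero.mp h) hω
  · exact Subtype.ext h
  · exact absurd h hS.ne

theorem skew_coe_mul (k : K) : (k : F) * ζ + ((k : F) * ζ) ^ q = 0 := by
  rw [mul_pow, hS.pow_q_coe]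
  linear_combination (k : F) * hS.skew

theorem T_ratVec_mem {c : F} (hc : c + c ^ q = 0) (u : Ks) :
    UnitaryMax.T (ratVec K P u) c (hS.alt u)
      ∈ Cfsg.Geo.subfieldSubgroup K P ⊓ (Cfsg.GU n F q ⊓ Cfsg.Geo.specialLinear (Fin n) F) := by
  have hcK : c / ζ ∈ K := by
    have hfix : (c / ζ) ^ q = c / ζ := by
      rw [div_pow, show c ^ q = -c from eq_neg_of_add_eq_zero_right hc,
        show ζ ^ q = -ζ from eq_neg_of_add_eq_zero_right hS.skew, neg_div_neg_eq]
    by_contra hn
    obtain ⟨a, ha⟩ := UnitaryMax.exists_moved hS.card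
    refine ha ?_
    have hω' : ¬ (c / ζ) ^ q ≠ c / ζ := fun h => h hfix
    -- every scalar is a rational combination of `1` and `c / ζ`
    have hbij : Function.Bijective fun p : K × K => (p.1 : F) + c / ζ * p.2 := by
      refine (Nat.bijective_iff_injective_and_card _).mpr ⟨fun p p' e => ?_, ?_⟩
      · have h2 : (p.2 : F) = p'.2 := by
          by_contra hne
          refine hn ?_
          rw [show c / ζ = ((p'.1 : F) - p.1) / ((p.2 : F) - p'.2) by
            rw [eq_div_iff (sub_ne_zero.mpr hne)]; linear_combination e]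
          exact K.div_mem (K.sub_mem p'.1.2 p.1.2) (K.sub_mem p.2.2 p'.2.2)
        have h1 : (p.1 : F) = p'.1 := by
          have e' : (p.1 : F) + c / ζ * p.2 = (p'.1 : F) + c / ζ * p'.2 := e
          rw [h2] at e'
          exact add_right_cancel e'
        exact Prod.ext (Subtype.ext h1) (Subtype.ext h2)
      · rw [Nat.card_prod, hS.cardK, Nat.card_eq_fintype_card, hS.card, sq]
    obtain ⟨⟨x, y⟩, rfl⟩ := hbij.2 a
    rw [UnitaryMax.q_add hS.card, mul_pow, hfix, hS.pow_q_coe, hS.pow_q_coe]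
  refine ⟨mem_subfield_of_maps one_ne_zero fun v => ⟨v + ((⟨c / ζ, hcK⟩ : K) * hS.sB v u) • u, ?_⟩,
    UnitaryMax.T_mem hS.card _ (hS.alt u) hc⟩
  rw [UnitaryMax.T_mulVec, one_smul, ratVec_add, ratVec_smul]
  congr 2
  rw [hS.herm_rat]
  push_cast
  field_simp

variable (hHM : Cfsg.Geo.subfieldSubgroup K P ⊓ (Cfsg.GU n F q ⊓ Cfsg.Geo.specialLinear (Fin n) F) ≤ M)
  (hMS : M ≤ UnitaryMax.suGL n F q)

include hHM in
theorem rat_root (u : Ks) : ratVec K P u ∈ UnitaryMax.root q M :=
  ⟨hS.alt u, fun _ hc => hHM (hS.T_ratVec_mem hc u)⟩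

omit hS in
/-- Independent pairs giving a root vector. -/
def IsRootPair (q : ℕ) (K : Subfield F) (P : GL (Fin n) F) (M : Subgroup (GL (Fin n) F)) (ω : F)
    (a b : Fin n → K) : Prop :=
  LinearIndependent K ![a, b] ∧ ratVec K P a + ω • ratVec K P b ∈ UnitaryMax.root q M

include hHM hMS in
theorem rootPair_step {a b : Ks} (h : IsRootPair q K P M ω a b) (k : K) (c : Ks) :
    IsRootPair q K P M ω (a + (k * hS.sB a c) • c) (b + (k * hS.sB b c) • c) := by
  refine ⟨?_, ?_⟩
  · let L : Ks →ₗ[K] Ks :=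
      { toFun := fun x => x + (k * hS.sB x c) • c
        map_add' := fun x y => by simp only [map_add, LinearMap.add_apply, mul_add, add_smul]; abel
        map_smul' := fun t x => by
          simp only [map_smul, LinearMap.smul_apply, smul_eq_mul, smul_add, smul_smul, RingHom.id_apply]
          rw [mul_left_comm] }
    have hL : LinearMap.ker L = ⊥ := by
      refine LinearMap.ker_eq_bot'.mpr fun x hx => ?_
      have hx' : x + (k * hS.sB x c) • c = 0 := hx
      have h1 := congrArg (fun z => hS.sB z c) hx'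
      simp only [map_add, map_smul, LinearMap.add_apply, LinearMap.smul_apply, hS.sB_self, smul_zero, add_zero,
        map_zero, LinearMap.zero_apply] at h1
      rwa [h1, mul_zero, zero_smul, add_zero] at hx'
    have h2 := h.1.map' L hL
    have e : (![a + (k * hS.sB a c) • c, b + (k * hS.sB b c) • c] : Fin 2 → Ks) = L ∘ ![a, b] := by
      funext i
      fin_cases i <;> rfl
    rw [e]
    exact h2
  · have hm : UnitaryMax.T (ratVec K P c) ((k : F) * ζ) (hS.alt c) ∈ M :=
      hHM (hS.T_ratVec_mem (hS.skew_coe_mul k) c)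
    have h1 := UnitaryMax.root_map hMS hm h.2
    convert h1 using 1
    rw [UnitaryMax.T_mulVec, herm_add_left hS.card, herm_smul_left hS.card, hS.herm_rat, hS.herm_rat,
      ratVec_add, ratVec_add, ratVec_smul, ratVec_smul]
    have hζ := hS.ne
    push_cast
    field_simp
    module

include hω hHM hMS in
theorem rootPair_all (hn : 3 ≤ n) {a b : Ks} (h : IsRootPair q K P M ω a b) {a' b' : Ks}
    (hli : LinearIndependent K ![a', b']) (hab' : hS.sB a' b' = 0) : IsRootPair q K P M ω a' b' := by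
  have ne0 : ∀ {a b : Ks}, LinearIndependent K ![a, b] → a ≠ 0 := fun h e => h.ne_zero 0 (by simpa using e)
  -- one step on the first entry
  have move1 : ∀ {a b : Ks}, IsRootPair q K P M ω a b → ∀ d, hS.sB a d ≠ 0 →
      ∃ b'', IsRootPair q K P M ω d b'' := fun {a b} h d hd => by
    have h1 := hS.rootPair_step hHM hMS h (hS.sB a d)⁻¹ (d - a)
    rw [map_sub, hS.sB_self, sub_zero, inv_mul_cancel₀ hd, one_smul, add_sub_cancel] at h1
    exact ⟨_, h1⟩
  obtain ⟨b₁, h1⟩ : ∃ b₁, IsRootPair q K P M ω a' b₁ := by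
    by_cases hd : hS.sB a a' = 0
    · obtain ⟨d, hd1, hd2⟩ := exists_both_ne (hS.sB_ne_zero (ne0 h.1)) (hS.sB_ne_zero (ne0 hli))
      obtain ⟨b₂, h2⟩ := move1 h d hd1
      exact move1 h2 a' (by rw [hS.sB_comm]; exact neg_ne_zero.mpr hd2)
    · exact move1 h a' hd
  have hperp : ∀ {b : Ks}, IsRootPair q K P M ω a' b → hS.sB a' b = 0 := fun hb =>
    hS.sB_eq_zero_of_singular hω hb.2.1
  have move2 : ∀ {b : Ks}, IsRootPair q K P M ω a' b → ∀ d, hS.sB a' d = 0 → hS.sB b d ≠ 0 →
      IsRootPair q K P M ω a' d := fun {b} hb d hd0 hd => by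
    have h1 := hS.rootPair_step hHM hMS hb (hS.sB b d)⁻¹ (d - b)
    rwa [map_sub, map_sub, hd0, hperp hb, sub_zero, mul_zero, zero_smul, add_zero, hS.sB_self, sub_zero,
      inv_mul_cancel₀ hd, one_smul, add_sub_cancel] at h1
  by_cases hd : hS.sB b₁ b' = 0
  · let W := LinearMap.ker (hS.sB a')
    have hne : ∀ x : Ks, LinearIndependent K ![a', x] → (hS.sB x).comp W.subtype ≠ 0 := by
      intro x hx e
      obtain ⟨φ, hφ⟩ := exists_dot_eq hx ![0, 1]
      obtain ⟨z, hz⟩ := hS.exists_sB_eq φ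
      have hza : hS.sB a' z = 0 := by
        rw [hS.sB_comm, hz, show φ ⬝ᵥ a' = 0 from hφ 0, neg_zero]
      have h2 := LinearMap.congr_fun e ⟨z, hza⟩
      rw [LinearMap.comp_apply, Submodule.subtype_apply, LinearMap.zero_apply, hS.sB_comm, hz,
        show φ ⬝ᵥ x = 1 from hφ 1] at h2
      simp at h2
    obtain ⟨⟨d, hd0⟩, hd1, hd2⟩ := exists_both_ne (hne b₁ h1.1) (hne b' hli)
    have hd0' : hS.sB a' d = 0 := hd0
    exact move2 (move2 h1 d hd0' hd1) b' hab' (by rw [hS.sB_comm]; exact neg_ne_zero.mpr hd2)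
  · exact move2 h1 b' hab' hd

include hω in
theorem pair_indep {a b : Ks} (h : ¬ RatPt K P (ratVec K P a + ω • ratVec K P b)) :
    LinearIndependent K ![a, b] := by
  by_cases ha : a = 0
  · exact absurd ⟨ω, b, by rw [ha, ratVec_zero, zero_add]⟩ h
  refine pair_independent ha fun hmem => h ?_
  obtain ⟨k, rfl⟩ := Submodule.mem_span_singleton.mp hmem
  exact ⟨1 + ω * k, a, by rw [ratVec_smul, smul_smul, add_smul, one_smul]⟩

theorem isMaximalIn (hn : 4 ≤ n) :
    Cfsg.Geo.IsMaximalIn (Cfsg.GU n F q ⊓ Cfsg.Geo.specialLinear (Fin n) F)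
      (Cfsg.Geo.subfieldSubgroup K P ⊓ (Cfsg.GU n F q ⊓ Cfsg.Geo.specialLinear (Fin n) F)) := by
  haveI : Nonempty (Fin n) := ⟨⟨0, by omega⟩⟩
  obtain ⟨ω, hω⟩ := UnitaryMax.exists_moved hS.card
  refine ⟨lt_of_le_of_ne inf_le_right fun heq => ?_, fun M hHM hMS => ?_⟩
  · -- a transvection with irrational centre
    obtain ⟨a, -, ha⟩ := exists_dot_perp ![(0 : Ks)] (⊥ : Submodule K Ks) (by rw [finrank_bot]; simp; omega)
    have ha0 : a ≠ 0 := fun e => ha (by rw [e]; exact zero_mem _)
    have haker : a ∈ LinearMap.ker (hS.sB a) := hS.sB_self a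
    obtain ⟨b, hb0, hb⟩ : ∃ b, hS.sB a b = 0 ∧ b ∉ Submodule.span K {a} := by
      by_contra hno
      push Not at hno
      have h1 := (hS.sB a).finrank_range_add_finrank_ker
      have h2 : Module.finrank K (LinearMap.range (hS.sB a)) ≤ 1 :=
        (Submodule.finrank_le _).trans (by simp)
      have h3 := Submodule.finrank_mono (show LinearMap.ker (hS.sB a) ≤ Submodule.span K {a} from
        fun z hz => hno z hz)
      rw [finrank_span_singleton ha0] at h3
      rw [Module.finrank_fintype_fun_eq_card, Fintype.card_fin] at h1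
      omega
    have hli := pair_independent ha0 hb
    have hv0 : hh (ratVec K P a + ω • ratVec K P b) (ratVec K P a + ω • ratVec K P b) = 0 := by
      rw [hS.herm_pair, hb0]; simp
    obtain ⟨l, hl0, hl⟩ := exists_scale_of_mem (K := K) (P := P)
      (heq.ge (UnitaryMax.T_mem hS.card _ hv0 hS.skew)).1
    have act_eq : ∀ x : Ks, act (UnitaryMax.T (ratVec K P a + ω • ratVec K P b) ζ hv0) (ratVec K P x)
        = ratVec K P x + ((hS.sB x a : F) + ω ^ q * (hS.sB x b : F)) • (ratVec K P a + ω • ratVec K P b) := by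
      intro x
      rw [UnitaryMax.T_mulVec, herm_add_right hS.card, herm_smul_right hS.card, mul_add, hS.coe_sB, hS.coe_sB]
      congr 2
      ring
    obtain ⟨v₁, hv₁⟩ := hl a
    rw [act_eq, hS.sB_self, hb0] at hv₁
    push_cast at hv₁
    rw [mul_zero, add_zero, zero_smul, add_zero] at hv₁
    obtain ⟨c, hc⟩ := exists_dot_eq hli ![1, 0]
    have hca : c ⬝ᵥ a = 1 := hc 0
    have hcb : c ⬝ᵥ b = 0 := hc 1
    obtain ⟨φ, hφ⟩ := exists_dot_eq hli ![0, -1]
    obtain ⟨x, hx⟩ := hS.exists_sB_eq φ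
    have hxa : hS.sB x a = 0 := by rw [hx]; exact hφ 0
    have hxb : hS.sB x b = -1 := by rw [hx]; exact hφ 1
    obtain ⟨v₂, hv₂⟩ := hl x
    rw [act_eq, hxa, hxb] at hv₂
    have h1 := congrArg (fun z => ratCov K P c ⬝ᵥ z) hv₁
    have h2 := congrArg (fun z => ratCov K P c ⬝ᵥ z) hv₂
    simp only [dotProduct_add, dotProduct_smul, ratCov_dot, hca, hcb, smul_eq_mul] at h1 h2
    push_cast at h1 h2
    have hlK : l ∈ K := by
      rw [eq_inv_of_mul_eq_one_left h1.symm]
      exact K.inv_mem (c ⬝ᵥ v₁).2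
    have hωK : ω ^ q ∈ K := by
      rw [show ω ^ q = ((c ⬝ᵥ x : K) : F) - l * ((c ⬝ᵥ v₂ : K) : F) by linear_combination -h2]
      exact K.sub_mem (c ⬝ᵥ x).2 (K.mul_mem hlK (c ⬝ᵥ v₂).2)
    have h3 := hS.pow_q_coe ⟨_, hωK⟩
    exact hω (UnitaryMax.q_inj hS.card h3)
  by_cases hM : M ≤ Cfsg.Geo.subfieldSubgroup K P
  · exact Or.inl (le_antisymm (le_inf hM hMS) hHM)
  right
  obtain ⟨g, hgM, hg⟩ := SetLike.not_le_iff_exists.mp hM
  obtain ⟨u, hu⟩ := exists_irrational_image hg
  obtain ⟨a₀, b₀, he⟩ := hS.exists_coords hω (act g (ratVec K P u))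
  have h0 : IsRootPair q K P M ω a₀ b₀ := by
    rw [he] at hu
    exact ⟨hS.pair_indep hω hu, he ▸ UnitaryMax.root_map hMS hgM (hS.rat_root hHM u)⟩
  refine UnitaryMax.eq_suGL hS.card (by omega) (by omega) hMS fun v hv => ?_
  obtain ⟨a, b, rfl⟩ := hS.exists_coords hω v
  by_cases hr : RatPt K P (ratVec K P a + ω • ratVec K P b)
  · obtain ⟨l, w, hlw⟩ := hr
    rw [hlw]
    exact UnitaryMax.root_smul hS.card (hS.rat_root hHM w) l
  · exact (hS.rootPair_all hω hHM hMS (by omega) h0 (hS.pair_indep hω hr) (hS.sB_eq_zero_of_singular hω hv)).2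

end IsSympStructure

end Cfsg.Agent.Lib.SubfieldMax
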