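import Cfsg.Agent.Lib.SubfieldMax.Rational
import Cfsg.Agent.Lib.FormMax.Trans

/-!
Rational covectors and transvections lying in a subgroup.
-/

set_option autoImplicit false

namespace Cfsg.Agent.Lib.SubfieldMax

open Matrix Cfsg.Agent.Lib

variable {ι : Type} [Fintype ι] [DecidableEq ι] {F : Type*} [Field F]

section Cov

variable {K : Subfield F} {P : GL ι F}

/-- A rational covector. -/
def ratCov (K : Subfield F) (P : GL ι F) (a : ι → K) : ι → F :=
  (fun i => (a i : F)) ᵥ* ((P⁻¹ : GL ι F) : Matrix ι ι F)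

theorem ratCov_add (a b : ι → K) : ratCov K P (a + b) = ratCov K P a + ratCov K P b := by
  rw [ratCov, ratCov, ratCov, ← add_vecMul]
  rfl

theorem ratCov_smul (k : K) (a : ι → K) : ratCov K P (k • a) = (k : F) • ratCov K P a := by
  rw [ratCov, ratCov, ← smul_vecMul]
  rfl

theorem ratCov_sub (a b : ι → K) : ratCov K P (a - b) = ratCov K P a - ratCov K P b := by
  rw [eq_sub_iff_add_eq, ← ratCov_add, sub_add_cancel]

theorem ratCov_dot (a v : ι → K) : ratCov K P a ⬝ᵥ ratVec K P v = ((a ⬝ᵥ v : K) : F) := by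
  rw [ratCov, ratVec, dotProduct_mulVec, vecMul_vecMul, Units.inv_mul, vecMul_one]
  show ∑ i, K.subtype (a i) * K.subtype (v i) = K.subtype (∑ i, a i * v i)
  simp

theorem ratCov_dot_eq_zero {a v : ι → K} (h : a ⬝ᵥ v = 0) : ratCov K P a ⬝ᵥ ratVec K P v = 0 := by
  rw [ratCov_dot, h]; rfl

theorem ratCov_zero : ratCov K P (0 : ι → K) = 0 := by
  rw [← zero_smul K (0 : ι → K), ratCov_smul]
  simp

theorem eq_of_dot_ratVec {y z : ι → F} (h : ∀ u : ι → K, y ⬝ᵥ ratVec K P u = z ⬝ᵥ ratVec K P u) : y = z :=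
  dotProduct_eq _ _ fun v => by
    conv_lhs => rw [eq_sum_ratVec (K := K) (P := P) v]
    conv_rhs => rw [eq_sum_ratVec (K := K) (P := P) v]
    simp only [dotProduct_sum, dotProduct_smul, h]

theorem ratCov_ne_zero {a : ι → K} (ha : a ≠ 0) : ratCov K P a ≠ 0 := fun e => ha (by
  funext i
  have h := ratCov_dot (P := P) a (Pi.single i 1)
  rw [e, zero_dotProduct, dotProduct_single, mul_one] at h
  exact Subtype.ext h.symm)

omit [DecidableEq ι] in
theorem exists_dot_perp {j : ℕ} (a : Fin j → ι → K) (W : Submodule K (ι → K))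
    (h : Module.finrank K W + j < Fintype.card ι) : ∃ w, (∀ i, a i ⬝ᵥ w = 0) ∧ w ∉ W := by
  let L : (ι → K) →ₗ[K] (Fin j → K) :=
    { toFun := fun w i => a i ⬝ᵥ w
      map_add' := fun u v => funext fun i => dotProduct_add _ _ _
      map_smul' := fun k u => funext fun i => dotProduct_smul _ _ _ }
  by_contra hno
  push Not at hno
  have hle : LinearMap.ker L ≤ W := fun w hw => hno w fun i => congrFun hw i
  have h1 := L.finrank_range_add_finrank_ker
  have h2 : Module.finrank K (LinearMap.range L) ≤ j := (Submodule.finrank_le _).trans (by simp)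
  have h3 := Submodule.finrank_mono hle
  rw [Module.finrank_fintype_fun_eq_card] at h1
  omega

theorem exists_dot_eq {κ : Type} {u : κ → ι → K} (hu : LinearIndependent K u) (c : κ → K) :
    ∃ b : ι → K, ∀ i, b ⬝ᵥ u i = c i := by
  obtain ⟨g, hg⟩ := LinearMap.exists_extend ((Module.Basis.span hu).constr K c)
  refine ⟨fun k => g (Pi.single k 1), fun i => ?_⟩
  have h := LinearMap.congr_fun hg (Module.Basis.span hu i)
  rw [Module.Basis.constr_basis, LinearMap.comp_apply, Submodule.subtype_apply, Module.Basis.span_apply] at h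
  have h' : g (u i) = c i := h
  rw [← h']
  conv_rhs => rw [pi_eq_sum_univ' (u i), map_sum]
  simp only [map_smul, smul_eq_mul, dotProduct]
  exact Finset.sum_congr rfl fun k _ => mul_comm _ _

omit [DecidableEq ι] [Fintype ι] in
theorem pair_independent {a b : ι → K} (ha : a ≠ 0) (hb : b ∉ Submodule.span K {a}) :
    LinearIndependent K ![a, b] := by
  rw [LinearIndependent.pair_iff' ha]
  exact fun t e => hb (Submodule.mem_span_singleton.mpr ⟨t, e⟩)

end Cov

/-- The transvection with centre `x` and axis `y` is defined and lies in `M`. -/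
def InTr (M : Subgroup (GL ι F)) (x y : ι → F) : Prop := ∃ h : y ⬝ᵥ x = 0, FormMax.Tr x y h ∈ M

variable {M : Subgroup (GL ι F)} {x x' y y' r b : ι → F}

theorem Tr_mul_left (v w a : ι → F) (hv : a ⬝ᵥ v = 0) (hw : a ⬝ᵥ w = 0) :
    FormMax.Tr v a hv * FormMax.Tr w a hw
      = FormMax.Tr (v + w) a (by rw [dotProduct_add, hv, hw, add_zero]) := by
  refine FormMax.gl_ext fun z => ?_
  rw [Units.val_mul, ← mulVec_mulVec, FormMax.Tr_mulVec, FormMax.Tr_mulVec, FormMax.Tr_mulVec, dotProduct_add,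
    dotProduct_smul, hw, smul_zero, add_zero]
  module

theorem InTr.congr (h : InTr M x y) (e : x = x') (e' : y = y') : InTr M x' y' := e ▸ e' ▸ h

theorem InTr.zero_left (y : ι → F) : InTr M 0 y := by
  refine ⟨dotProduct_zero y, ?_⟩
  rw [show FormMax.Tr 0 y (dotProduct_zero y) = 1 from FormMax.gl_ext fun z => by simp [FormMax.Tr_mulVec]]
  exact M.one_mem

theorem InTr.zero_right (x : ι → F) : InTr M x 0 := by
  refine ⟨zero_dotProduct x, ?_⟩
  rw [show FormMax.Tr x 0 (zero_dotProduct x) = 1 from FormMax.gl_ext fun z => by simp [FormMax.Tr_mulVec]]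
  exact M.one_mem

theorem InTr.add (h : InTr M x y) (h' : InTr M x y') : InTr M x (y + y') := by
  obtain ⟨hd, hm⟩ := h
  obtain ⟨hd', hm'⟩ := h'
  exact ⟨_, FormMax.Tr_mul x y y' hd hd' ▸ M.mul_mem hm hm'⟩

theorem InTr.neg (h : InTr M x y) : InTr M x (-y) := by
  obtain ⟨hd, hm⟩ := h
  have hd' : (-y) ⬝ᵥ x = 0 := by rw [neg_dotProduct, hd, neg_zero]
  refine ⟨hd', ?_⟩
  have e : FormMax.Tr x y hd * FormMax.Tr x (-y) hd' = 1 := by
    rw [FormMax.Tr_mul]
    exact FormMax.gl_ext fun z => by simp [FormMax.Tr_mulVec]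
  rw [← inv_eq_of_mul_eq_one_right e]
  exact M.inv_mem hm

theorem InTr.sub (h : InTr M x y) (h' : InTr M x y') : InTr M x (y - y') :=
  (h.add h'.neg).congr rfl (sub_eq_add_neg y y').symm

theorem InTr.swap {c : F} (hd : y ⬝ᵥ x = 0) (h : InTr M (c • x) y) : InTr M x (c • y) := by
  obtain ⟨_, hm⟩ := h
  refine ⟨by rw [smul_dotProduct, hd, smul_zero], ?_⟩
  convert hm using 1
  refine FormMax.gl_ext fun z => ?_
  rw [FormMax.Tr_mulVec, FormMax.Tr_mulVec, smul_dotProduct, smul_eq_mul, smul_smul, mul_comm]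

theorem InTr.swap' {c : F} (h : InTr M x (c • y)) (hc : c ≠ 0) : InTr M (c • x) y := by
  obtain ⟨hd, hm⟩ := h
  rw [smul_dotProduct, smul_eq_mul] at hd
  have hd' : y ⬝ᵥ (c • x) = 0 := by rw [dotProduct_smul, smul_eq_mul, hd]
  refine ⟨hd', ?_⟩
  convert hm using 1
  refine FormMax.gl_ext fun z => ?_
  rw [FormMax.Tr_mulVec, FormMax.Tr_mulVec, smul_dotProduct, smul_eq_mul, smul_smul, mul_comm]

theorem InTr.conj {g : GL ι F} (hg : g ∈ M) (h : InTr M x y) :
    InTr M ((g : Matrix ι ι F) *ᵥ x) (y ᵥ* ((g⁻¹ : GL ι F) : Matrix ι ι F)) := by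
  obtain ⟨hd, hm⟩ := h
  refine ⟨?_, FormMax.conj_Tr g x y hd ▸ M.mul_mem (M.mul_mem hg hm) (M.inv_mem hg)⟩
  rw [← dotProduct_mulVec, mulVec_mulVec, ← Units.val_mul, inv_mul_cancel, Units.val_one, one_mulVec, hd]

theorem InTr.conjTr (h : InTr M x y) (h' : InTr M r b) :
    InTr M (r + (y ⬝ᵥ r) • x) (b - (b ⬝ᵥ x) • y) := by
  obtain ⟨hd, hm⟩ := h
  refine (h'.conj hm).congr (FormMax.Tr_mulVec x y hd r) ?_
  show b ᵥ* (1 - vecMulVec x y) = _
  rw [vecMul_sub, vecMul_one, vecMul_vecMulVec]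

theorem InTr.commAxis (h : InTr M x y) (h' : InTr M r b) (hbx : b ⬝ᵥ x = 0) : InTr M x ((y ⬝ᵥ r) • b) := by
  have h2 := h.conjTr h'
  rw [hbx, zero_smul, sub_zero] at h2
  obtain ⟨hd2, hm2⟩ := h2
  obtain ⟨hd', hm'⟩ := h'
  have hdn : b ⬝ᵥ (-r) = 0 := by rw [dotProduct_neg, hd', neg_zero]
  have hn : FormMax.Tr (-r) b hdn ∈ M := by
    have e : FormMax.Tr r b hd' * FormMax.Tr (-r) b hdn = 1 := by
      rw [Tr_mul_left]
      exact FormMax.gl_ext fun z => by simp [FormMax.Tr_mulVec]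
    rw [← inv_eq_of_mul_eq_one_right e]
    exact M.inv_mem hm'
  have h3 : InTr M ((y ⬝ᵥ r) • x) b :=
    InTr.congr ⟨_, Tr_mul_left _ _ b hd2 hdn ▸ M.mul_mem hm2 hn⟩ (by abel) rfl
  exact h3.swap hbx

theorem InTr.commCentre (h : InTr M x y) (h' : InTr M r b) (hyr : y ⬝ᵥ r = 0) : InTr M r ((b ⬝ᵥ x) • y) := by
  have h2 := h.conjTr h'
  rw [hyr, zero_smul, add_zero] at h2
  exact (h'.sub h2).congr rfl (sub_sub_cancel _ _)

end Cfsg.Agent.Lib.SubfieldMax
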