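import Cfsg.Agent.Lib.SubfieldMax.SympTools

/-!
The subfield subgroup of a symplectic group over an extension of prime degree is maximal.
-/

set_option autoImplicit false

namespace Cfsg.Agent.Lib.SubfieldMax

open Matrix Cfsg.Agent.Lib.Forms Cfsg.Agent.Lib

variable {F : Type*} [Field F] [Finite F] {m : ℕ} {K : Subfield F} {ζ : F} {P : GL (Fin m ⊕ Fin m) F}
  {M : Subgroup (GL (Fin m ⊕ Fin m) F)}

local notation "Vs" => (Fin m ⊕ Fin m → F)
local notation "Ks" => (Fin m ⊕ Fin m → K)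
local notation "act" g:max x:max => Matrix.mulVec (g : Matrix (Fin m ⊕ Fin m) (Fin m ⊕ Fin m) F) x

omit [Finite F] in
theorem linearIndependent_two {a b : Fin m ⊕ Fin m → K} (ha : a ≠ 0) (hb : b ∉ Submodule.span K {a}) :
    LinearIndependent K ![a, b] := by
  rw [LinearIndependent.pair_iff' ha]
  exact fun t e => hb (Submodule.mem_span_singleton.mpr ⟨t, e⟩)

omit [Finite F] in
theorem linearIndependent_three {a b c : Fin m ⊕ Fin m → K} (hbc : LinearIndependent K ![b, c])
    (ha : a ∉ Submodule.span K {b, c}) : LinearIndependent K ![a, b, c] := by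
  rw [show (![a, b, c] : Fin 3 → Fin m ⊕ Fin m → K) = Fin.cons a ![b, c] from rfl, linearIndependent_finCons]
  refine ⟨hbc, ?_⟩
  rwa [Matrix.range_cons, Matrix.range_cons, Matrix.range_empty, Set.union_empty, ← Set.insert_eq]

/-- Centres of rational transvection groups inside `M`. -/
def Centre (K : Subfield F) (ζ : F) (M : Subgroup (GL (Fin m ⊕ Fin m) F)) (w : Fin m ⊕ Fin m → F) : Prop :=
  ∀ a : K, Tz ζ w (a : F) ∈ M

/-- Scalars whose rational root elements lie in `M`. -/
def Good (hP : ∀ u v : Fin m ⊕ Fin m → K, ph ζ (ratVec K P u) (ratVec K P v) ∈ K)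
    (M : Subgroup (GL (Fin m ⊕ Fin m) F)) (c : F) : Prop :=
  ∀ a b : Fin m ⊕ Fin m → K, LinearIndependent K ![a, b] → ratForm hP a b = 0 →
    Ez ζ (ratVec K P a) (ratVec K P b) c ∈ M

variable (hζ : ζ ≠ 0) (hm : 3 ≤ m)
  (hP : ∀ u v : Fin m ⊕ Fin m → K, ph ζ (ratVec K P u) (ratVec K P v) ∈ K)
  (hHM : Cfsg.Geo.subfieldSubgroup K P ⊓ Cfsg.spGL m F ≤ M) (hMS : M ≤ Cfsg.spGL m F)

include hP hHM in
omit [Finite F] in
theorem centre_ratVec (u : Ks) : Centre K ζ M (ratVec K P u) := fun a => hHM (Tz_ratVec_mem a u hP)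

include hP hHM in
omit [Finite F] in
theorem Ez_rat_mem (a b : Ks) : Ez ζ (ratVec K P a) (ratVec K P b) (1 : F) ∈ M := by
  rw [Ez, ← ratVec_add, show (-1 : F) = ((-1 : K) : F) by simp, show (1 : F) = ((1 : K) : F) by simp]
  exact M.mul_mem (M.mul_mem (centre_ratVec hP hHM _ 1) (centre_ratVec hP hHM _ _)) (centre_ratVec hP hHM _ _)

include hMS in
omit [Finite F] in
theorem centre_map {g : GL (Fin m ⊕ Fin m) F} (hg : g ∈ M) {w : Vs} (hw : Centre K ζ M w) :
    Centre K ζ M (act g w) := fun a => by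
  rw [← conj_Tz (hMS hg)]
  exact M.mul_mem (M.mul_mem hg (hw a)) (M.inv_mem hg)

include hζ hHM hMS in
omit [Finite F] in
theorem good_of_pair {c : F} {a₀ b₀ : Ks} (hli : LinearIndependent K ![a₀, b₀]) (h0 : ratForm hP a₀ b₀ = 0)
    (h : Ez ζ (ratVec K P a₀) (ratVec K P b₀) c ∈ M) : Good hP M c := by
  intro a b hab hab0
  obtain ⟨g, hg, hgi⟩ := exists_rational_map hP hζ hli hab (fun i j => by
    fin_cases i <;> fin_cases j <;> simp [ratForm_self, h0, hab0, ratForm_comm hP b₀ a₀, ratForm_comm hP b a])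
  have h1 := M.mul_mem (M.mul_mem (hHM hg) h) (M.inv_mem (hHM hg))
  rw [conj_Ez hg.2] at h1
  rwa [show act g (ratVec K P a₀) = ratVec K P a by simpa using hgi 0,
    show act g (ratVec K P b₀) = ratVec K P b by simpa using hgi 1] at h1

include hζ hHM hMS in
omit [Finite F] in
theorem good_of_Tz {c : F} {a₀ : Ks} (ha₀ : a₀ ≠ 0) (h : Tz ζ (ratVec K P a₀) c ∈ M) : Good hP M c := by
  have hall : ∀ x : Ks, x ≠ 0 → Tz ζ (ratVec K P x) c ∈ M ∧ Tz ζ (ratVec K P x) (-c) ∈ M := by
    intro x hx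
    obtain ⟨g, hg, hgi⟩ := exists_rational_map hP hζ (v := ![a₀]) (w := ![x])
      (linearIndependent_unique_iff.mpr (by simpa using ha₀)) (linearIndependent_unique_iff.mpr (by simpa using hx))
      (fun i j => by fin_cases i; fin_cases j; simp [ratForm_self])
    have h1 := M.mul_mem (M.mul_mem (hHM hg) h) (M.inv_mem (hHM hg))
    rw [conj_Tz hg.2, show act g (ratVec K P a₀) = ratVec K P x by simpa using hgi 0] at h1
    refine ⟨h1, ?_⟩
    have h2 : Tz ζ (ratVec K P x) c * Tz ζ (ratVec K P x) (-c) = 1 := by rw [← Tz_add, add_neg_cancel, Tz_zero]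
    rw [← inv_eq_of_mul_eq_one_right h2]
    exact M.inv_mem h1
  intro a b hab _
  rw [LinearIndependent.pair_iff] at hab
  have ha : a ≠ 0 := fun e => one_ne_zero (hab 1 0 (by simp [e])).1
  have hb : b ≠ 0 := fun e => one_ne_zero (hab 0 1 (by simp [e])).2
  have hsum : a + b ≠ 0 := fun e => one_ne_zero (hab 1 1 (by simpa using e)).1
  rw [Ez, ← ratVec_add]
  exact M.mul_mem (M.mul_mem (hall _ hsum).1 (hall _ ha).2) (hall _ hb).2

include hζ hHM hMS in
omit [Finite F] in
theorem good_coe (a : K) : Good hP M (a : F) := by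
  intro x y _ _
  rw [Ez, ← ratVec_add, show -((a : F)) = ((-a : K) : F) by simp]
  exact M.mul_mem (M.mul_mem (centre_ratVec hP hHM _ _) (centre_ratVec hP hHM _ _)) (centre_ratVec hP hHM _ _)

omit [Finite F] in
theorem good_add {c d : F} (hc : Good hP M c) (hd : Good hP M d) : Good hP M (c + d) := by
  intro a b hab hab0
  rw [← Ez_add (ph_eq_zero_of_ratForm hP hab0)]
  exact M.mul_mem (hc a b hab hab0) (hd a b hab hab0)

include hm in
omit [Finite F] in
theorem exists_nonzero : ∃ a : Fin m ⊕ Fin m → K, a ≠ 0 :=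
  ⟨Pi.single (Sum.inl ⟨0, by omega⟩) 1, by simp⟩

include hζ hm hHM hMS in
omit [Finite F] in
theorem good_mul {c d : F} (hc : Good hP M c) (hd : Good hP M d) : Good hP M (c * d) := by
  obtain ⟨a, ha⟩ := exists_nonzero (K := K) hm
  obtain ⟨t, ht0, ht⟩ := exists_perp_notMem hP hζ ![a] (Submodule.span K {a})
    (by rw [finrank_span_singleton ha]; omega)
  have hat : ratForm hP a t = 0 := ht0 0
  have hli := linearIndependent_two ha ht
  obtain ⟨t', ht'⟩ := exists_ratForm_eq hP hζ hli ![0, -1]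
  have hat' : ratForm hP a t' = 0 := ht' 0
  have ht't : ratForm hP t' t = 1 := by
    rw [ratForm_comm, show ratForm hP t t' = -1 from ht' 1, neg_neg]
  obtain ⟨b', hb0, hb⟩ := exists_perp_notMem hP hζ ![a, t, t'] (Submodule.span K {a})
    (by rw [finrank_span_singleton ha]; omega)
  have hab : ratForm hP a b' = 0 := hb0 0
  have htb : ratForm hP t b' = 0 := hb0 1
  have ht'b : ratForm hP t' b' = 0 := hb0 2
  have ht'0 : t' ≠ 0 := fun e => by rw [e, map_zero, LinearMap.zero_apply] at ht't; exact zero_ne_one ht't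
  have hli' : LinearIndependent K ![t', b'] := linearIndependent_two ht'0 fun hmem => hb (by
    obtain ⟨k, rfl⟩ := Submodule.mem_span_singleton.mp hmem
    have hk : k = 0 := by
      rw [map_smul, smul_eq_mul, ratForm_comm hP t t', ht't] at htb
      simpa using htb
    rw [hk, zero_smul]
    exact zero_mem _)
  have hX := hc a t hli hat
  have h1 := M.mul_mem (M.mul_mem hX (hd t' b' hli' ht'b)) (M.inv_mem hX)
  have e1 : act (Ez ζ (ratVec K P a) (ratVec K P t) c) (ratVec K P t') = ratVec K P t' + c • ratVec K P a := by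
    rw [Ez_mulVec (ph_eq_zero_of_ratForm hP hat), ph_comm _ (ratVec K P a), ph_eq_zero_of_ratForm hP hat',
      ph_eq_one_of_ratForm hP ht't]
    simp
  have e2 : act (Ez ζ (ratVec K P a) (ratVec K P t) c) (ratVec K P b') = ratVec K P b' := by
    rw [Ez_mulVec (ph_eq_zero_of_ratForm hP hat), ph_comm _ (ratVec K P a), ph_eq_zero_of_ratForm hP hab,
      ph_comm _ (ratVec K P t), ph_eq_zero_of_ratForm hP htb]
    simp
  rw [conj_Ez (Ez_mem _ _ _), e1, e2, Ez_split (by rw [ph_comm, ph_eq_zero_of_ratForm hP hat', neg_zero])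
    (ph_eq_zero_of_ratForm hP ht'b) (ph_eq_zero_of_ratForm hP hab)] at h1
  have h2 := M.mul_mem (M.inv_mem (hd t' b' hli' ht'b)) h1
  rw [inv_mul_cancel_left, mul_comm d c] at h2
  exact good_of_pair hζ hP hHM hMS (linearIndependent_two ha hb) hab h2

include hζ hm hHM hMS in
theorem good_all (r : ℕ) (hr : r.Prime) (hcard : Nat.card F = Nat.card K ^ r) {c : F} (hc : c ∉ K)
    (hgood : Good hP M c) (x : F) : Good hP M x := by
  let S : Subalgebra K F :=
    { carrier := {x | Good hP M x}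
      mul_mem' := fun ha hb => good_mul hζ hm hP hHM hMS ha hb
      one_mem' := by simpa using good_coe hζ hP hHM hMS 1
      add_mem' := fun ha hb => good_add hP ha hb
      zero_mem' := by simpa using good_coe hζ hP hHM hMS 0
      algebraMap_mem' := fun a => good_coe hζ hP hHM hMS a }
  haveI : Module.Finite K F := Module.Finite.of_finite
  have hdim : Module.finrank K F = r := by
    have h := Module.natCard_eq_pow_finrank (K := K) (V := F)
    rw [hcard] at h
    exact (Nat.pow_right_injective Finite.one_lt_card h).symm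
  have h := Subalgebra.isSimpleOrder_of_finrank_prime K F (hdim ▸ hr)
  rcases h.eq_bot_or_eq_top S with e | e
  · exfalso
    have hcS : c ∈ (⊥ : Subalgebra K F) := e ▸ (hgood : c ∈ S)
    obtain ⟨a, ha⟩ := Algebra.mem_bot.mp hcS
    exact hc (ha ▸ a.2)
  · exact (e ▸ Algebra.mem_top : x ∈ S)

include hζ hm hHM hMS in
theorem eq_spGL_of_good (hgood : ∀ x, Good hP M x) : M = Cfsg.spGL m F := by
  classical
  haveI : Fintype F := Fintype.ofFinite F
  have hT : ∀ b : Ks, b ≠ 0 → ∀ c, Tz ζ (ratVec K P b) c ∈ M := by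
    intro b hb
    obtain ⟨t, ht0, ht⟩ := exists_perp_notMem hP hζ ![b] (Submodule.span K {b})
      (by rw [finrank_span_singleton hb]; omega)
    have hbt : ratForm hP b t = 0 := ht0 0
    have hli := linearIndependent_two hb ht
    obtain ⟨t', ht'⟩ := exists_ratForm_eq hP hζ hli ![0, -1]
    have hbt' : ratForm hP b t' = 0 := ht' 0
    have ht't : ratForm hP t' t = 1 := by
      rw [ratForm_comm, show ratForm hP t t' = -1 from ht' 1, neg_neg]
    have hli1 : LinearIndependent K ![b, t'] := linearIndependent_two hb fun h => by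
      obtain ⟨k, rfl⟩ := Submodule.mem_span_singleton.mp h
      simp [hbt] at ht't
    have hli2 : LinearIndependent K ![b, t + t'] := linearIndependent_two hb fun h => by
      obtain ⟨k, hk⟩ := Submodule.mem_span_singleton.mp h
      have h1 := congrArg (fun z => ratForm hP z t) hk
      simp [hbt, ratForm_self, ht't] at h1
    have hsq : ∀ l : F, Tz ζ (ratVec K P b) (l * l) ∈ M := by
      intro l
      have h1 := M.mul_mem (hgood l b t hli hbt) (hgood l b t' hli1 hbt')
      rw [Ez_comb (ph_eq_zero_of_ratForm hP hbt) (ph_eq_zero_of_ratForm hP hbt'), ← ratVec_add,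
        ph_eq_one_of_ratForm hP ht't, mul_one] at h1
      exact (M.mul_mem_cancel_left (hgood l b (t + t') hli2 (by rw [map_add, hbt, hbt', add_zero]))).mp h1
    intro c
    by_cases h2 : (2 : F) = 0
    · haveI : CharP F 2 := CharTwo.of_one_ne_zero_of_two_eq_zero one_ne_zero h2
      obtain ⟨l, hl⟩ := FiniteField.isSquare_of_char_two (ringChar.eq F 2) c
      rw [hl]; exact hsq l
    · have e : c = ((c + 1) / 2) * ((c + 1) / 2) + -((((c - 1) / 2)) * (((c - 1) / 2))) := by field_simp; ring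
      rw [e, Tz_add]
      refine M.mul_mem (hsq _) ?_
      have h3 : Tz ζ (ratVec K P b) ((c - 1) / 2 * ((c - 1) / 2)) *
          Tz ζ (ratVec K P b) (-((c - 1) / 2 * ((c - 1) / 2))) = 1 := by rw [← Tz_add, add_neg_cancel, Tz_zero]
      rw [← inv_eq_of_mul_eq_one_right h3]
      exact M.inv_mem (hsq _)
  refine SympMax.eq_spGL hMS fun v => ?_
  set e : Fin m ⊕ Fin m → Fin m ⊕ Fin m → K := fun i => Pi.single i 1 with he
  suffices ∀ (s : Finset (Fin m ⊕ Fin m)) (c : Fin m ⊕ Fin m → F),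
      ∑ i ∈ s, c i • ratVec K P (e i) ∈ SympMax.root M by
    rw [eq_sum_ratVec (K := K) (P := P) v]
    exact this _ _
  intro s
  induction s using Finset.induction_on with
  | empty =>
    intro c
    rw [Finset.sum_empty]
    exact root_of_Tz hζ fun d => by
      rw [← zero_smul F (0 : Vs), Tz_smul, mul_zero, zero_mul, Tz_zero]
      exact M.one_mem
  | insert j s hj ih =>
    intro c
    rw [Finset.sum_insert hj]
    set v' := ∑ i ∈ s, c i • ratVec K P (e i)
    have hv' : v' ∈ SympMax.root M := ih c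
    set b := ratVec K P (e j) with hb
    have hej : e j ≠ 0 := by simp [he]
    by_cases h1 : ph ζ v' b = 0
    · by_cases h2 : ∃ t : Ks, ratForm hP (e j) t = 0 ∧ ph ζ v' (ratVec K P t) ≠ 0
      · obtain ⟨t, ht, htv⟩ := h2
        have hli : LinearIndependent K ![e j, t] := linearIndependent_two hej fun h => by
          obtain ⟨k, rfl⟩ := Submodule.mem_span_singleton.mp h
          exact htv (by rw [ratVec_smul, ph_smul_right, h1, mul_zero])
        have h3 := SympMax.root_map hMS (hgood (c j / ph ζ v' (ratVec K P t)) _ _ hli ht) hv'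
        rw [Ez_mulVec (ph_eq_zero_of_ratForm hP ht), h1, mul_zero, zero_smul, add_zero,
          div_mul_cancel₀ _ htv, add_comm] at h3
        exact h3
      · push Not at h2
        obtain ⟨u₀, hu₀⟩ := exists_ratForm_eq hP hζ (u := ![e j])
          (linearIndependent_unique_iff.mpr (by simpa using hej)) ![1]
        have hu₀' : ratForm hP (e j) u₀ = 1 := hu₀ 0
        have hw : v' - (- ph ζ (ratVec K P u₀) v') • b = 0 := eq_zero_of_ph_ratVec (K := K) (P := P) hζ fun u => by
          have h3 := h2 (u - ratForm hP (e j) u • u₀) (by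
            rw [map_sub, map_smul, hu₀', smul_eq_mul, mul_one, sub_self])
          rw [ratVec_sub, ratVec_smul, ph_sub_right, ph_smul_right, coe_ratForm] at h3
          rw [ph_sub_right, ph_smul_right, hb, ph_comm (ratVec K P u) (ratVec K P (e j)),
            ph_comm (ratVec K P u) v', ph_comm (ratVec K P u₀) v']
          linear_combination -h3
        rw [sub_eq_zero] at hw
        rw [hw, ← add_smul]
        exact SympMax.root_smul (root_of_Tz hζ (hT _ hej)) _
    · have h3 := SympMax.root_map hMS (hT (e j) hej (c j / ph ζ v' b)) hv'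
      rw [Tz_mulVec, ← hb, div_mul_cancel₀ _ h1, add_comm] at h3
      exact h3

/-- A vector on a rational line whose scalar has its square in `K`. -/
def IsRatCentre (K : Subfield F) (P : GL (Fin m ⊕ Fin m) F) (w : Fin m ⊕ Fin m → F) : Prop :=
  ∃ (l : F) (u : Fin m ⊕ Fin m → K), l * l ∈ K ∧ w = l • ratVec K P u

include hζ hm hHM hMS in
omit [Finite F] in
theorem good_products {w : Vs} (hw : Centre K ζ M w) {t : Ks} (ht : t ≠ 0) (htw : ph ζ (ratVec K P t) w = 0)
    {s s' : Ks} (hs : ratForm hP t s = 0) (hs' : ratForm hP t s' = 0) :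
    Good hP M (ph ζ w (ratVec K P s) * ph ζ w (ratVec K P s')) := by
  by_cases hli : s' ∈ Submodule.span K {t}
  · obtain ⟨k, rfl⟩ := Submodule.mem_span_singleton.mp hli
    rw [ratVec_smul, ph_smul_right, ph_comm w (ratVec K P t), htw, neg_zero, mul_zero, mul_zero]
    simpa using good_coe hζ hP hHM hMS 0
  obtain ⟨t', ht'⟩ := exists_ratForm_eq hP hζ (linearIndependent_two ht hli) ![0, -1]
  have htt' : ratForm hP t t' = 0 := ht' 0
  have ht's : ratForm hP t' s' = 1 := by rw [ratForm_comm, show ratForm hP s' t' = -1 from ht' 1, neg_neg]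
  obtain ⟨b', hb0, hb⟩ := exists_perp_notMem hP hζ ![t, s', t'] (Submodule.span K {t})
    (by rw [finrank_span_singleton ht]; omega)
  have htb : ratForm hP t b' = 0 := hb0 0
  have hsb : ratForm hP s' b' = 0 := hb0 1
  have ht'b : ratForm hP t' b' = 0 := hb0 2
  have hwt : ph ζ w (ratVec K P t) = 0 := by rw [ph_comm, htw, neg_zero]
  have hts := ph_eq_zero_of_ratForm hP hs
  have hts' := ph_eq_zero_of_ratForm hP hs'
  have hs't : ph ζ (ratVec K P s') (ratVec K P t) = 0 := by rw [ph_comm, hts', neg_zero]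
  set κ := ph ζ w (ratVec K P s) with hκ
  set σ := ph ζ (ratVec K P s') w with hσ
  have hh := Ez_rat_mem hP hHM t s
  have e0 : act (Ez ζ (ratVec K P t) (ratVec K P s) (1 : F)) w = w + κ • ratVec K P t := by
    rw [Ez_mulVec hts, hwt, ← hκ]; simp
  have hw1 := hw 1
  have hwm := hw (-1)
  push_cast at hw1 hwm
  have hX1 := M.mul_mem (M.mul_mem hh hw1) (M.inv_mem hh)
  rw [conj_Tz (Ez_mem _ _ _), e0] at hX1
  have hX := M.mul_mem hX1 hwm
  set X := Tz ζ (w + κ • ratVec K P t) (1 : F) * Tz ζ w (-1 : F) with hXdef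
  have eX : act X (ratVec K P s') = ratVec K P s' + (σ * κ) • ratVec K P t := by
    rw [hXdef, Units.val_mul, ← mulVec_mulVec, Tz_mulVec, Tz_mulVec, ← hσ]
    simp only [ph_add_left, ph_add_right, ph_smul_left, ph_smul_right, ph_self, hwt, hs't, ← hσ, mul_zero, add_zero]
    module
  have hT1 := centre_ratVec hP hHM s' 1
  have hTm := centre_ratVec hP hHM s' (-1)
  push_cast at hT1 hTm
  have hY1 := M.mul_mem (M.mul_mem hX hT1) (M.inv_mem hX)
  rw [conj_Tz (hMS hX), eX] at hY1
  have hY := M.mul_mem hY1 hTm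
  set η := σ * κ with hη
  set Y := Tz ζ (ratVec K P s' + η • ratVec K P t) (1 : F) * Tz ζ (ratVec K P s') (-1 : F) with hYdef
  have et : act Y (ratVec K P t') = ratVec K P t' + η • ratVec K P t := by
    rw [hYdef, Units.val_mul, ← mulVec_mulVec, Tz_mulVec, Tz_mulVec, ph_eq_one_of_ratForm hP ht's]
    simp only [ph_add_left, ph_add_right, ph_smul_left, ph_smul_right, ph_self, hs't,
      ph_eq_one_of_ratForm hP ht's, ph_comm (ratVec K P t') (ratVec K P t), ph_eq_zero_of_ratForm hP htt',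
      neg_zero, mul_zero, add_zero]
    module
  have eb : act Y (ratVec K P b') = ratVec K P b' := by
    have h1 : ph ζ (ratVec K P b') (ratVec K P s') = 0 := by rw [ph_comm, ph_eq_zero_of_ratForm hP hsb, neg_zero]
    have h2 : ph ζ (ratVec K P b') (ratVec K P t) = 0 := by rw [ph_comm, ph_eq_zero_of_ratForm hP htb, neg_zero]
    rw [hYdef, Units.val_mul, ← mulVec_mulVec, Tz_mulVec, Tz_mulVec, h1]
    simp [ph_add_right, ph_smul_right, h1, h2]
  have hE := Ez_rat_mem hP hHM t' b'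
  have h1 := M.mul_mem (M.mul_mem hY hE) (M.inv_mem hY)
  rw [conj_Ez (hMS hY), et, eb, Ez_split (by rw [ph_comm, ph_eq_zero_of_ratForm hP htt', neg_zero])
    (ph_eq_zero_of_ratForm hP ht'b) (ph_eq_zero_of_ratForm hP htb)] at h1
  have h2 := M.mul_mem (M.inv_mem hE) h1
  rw [inv_mul_cancel_left, one_mul] at h2
  have hgood := good_mul hζ hm hP hHM hMS (good_of_pair hζ hP hHM hMS (linearIndependent_two ht hb) htb h2)
    (good_coe hζ hP hHM hMS (-1))
  rw [ph_comm w (ratVec K P s'), ← hσ]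
  push_cast at hgood
  rwa [show κ * -σ = η * -1 by rw [hη]; ring]

include hζ hm hHM hMS in
omit [Finite F] in
theorem exists_good_notMem {w : Vs} (hw : Centre K ζ M w) (hirr : ¬ IsRatCentre K P w) {t : Ks} (ht : t ≠ 0)
    (htw : ph ζ (ratVec K P t) w = 0) : ∃ c, c ∉ K ∧ Good hP M c := by
  by_contra hno
  push Not at hno
  have hK : ∀ t : Ks, t ≠ 0 → ph ζ (ratVec K P t) w = 0 → ∀ s s' : Ks, ratForm hP t s = 0 → ratForm hP t s' = 0 →
      ph ζ w (ratVec K P s) * ph ζ w (ratVec K P s') ∈ K := fun t ht htw s s' hs hs' => by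
    by_contra h
    exact hno _ h (good_products hζ hm hP hHM hMS hw ht htw hs hs')
  obtain ⟨r₀, hr₀⟩ := exists_ratForm_eq hP hζ (u := ![t]) (linearIndependent_unique_iff.mpr (by simpa using ht)) ![-1]
  have hr₀' : ratForm hP r₀ t = 1 := by rw [ratForm_comm, show ratForm hP t r₀ = -1 from hr₀ 0, neg_neg]
  set ν := ph ζ (ratVec K P r₀) w with hν
  -- the projection to the perpendicular of `t`
  set pr : Ks → Ks := fun u => u - ratForm hP u t • r₀ with hpr
  have hpr0 : ∀ u, ratForm hP t (pr u) = 0 := fun u => by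
    rw [hpr, ratForm_comm, map_sub, map_smul, LinearMap.sub_apply, LinearMap.smul_apply, hr₀']
    simp
  by_cases hU : ∀ u : Ks, ratForm hP t u = 0 → ph ζ w (ratVec K P u) = 0
  · have e : w = ν • ratVec K P t := sub_eq_zero.mp (eq_zero_of_ph_ratVec (K := K) (P := P) hζ fun u => by
      have h1 := hU _ (hpr0 u)
      rw [hpr, ratVec_sub, ratVec_smul, ph_sub_right, ph_smul_right, coe_ratForm] at h1
      rw [ph_sub_right, ph_smul_right, ph_comm (ratVec K P u) w, hν, ph_comm (ratVec K P r₀) w]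
      linear_combination -h1)
    have h1 := hw 1
    push_cast at h1
    rw [e, Tz_smul, mul_one] at h1
    by_cases hν2 : ν * ν ∈ K
    · exact hirr ⟨ν, t, hν2, e⟩
    · exact hno _ hν2 (good_of_Tz hζ hP hHM hMS ht h1)
  push Not at hU
  obtain ⟨u₁, hu₁, hμ0⟩ := hU
  set μ := ph ζ w (ratVec K P u₁) with hμ
  have hμμ : μ * μ ∈ K := hK t ht htw u₁ u₁ hu₁ hu₁
  have hratio : ∀ u : Ks, ratForm hP t u = 0 → ph ζ w (ratVec K P u) / μ ∈ K := fun u hu => by
    rw [show ph ζ w (ratVec K P u) / μ = (ph ζ w (ratVec K P u) * μ) / (μ * μ) by field_simp]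
    exact K.div_mem (hK t ht htw u u₁ hu hu₁) hμμ
  let L : (Fin m ⊕ Fin m → K) →ₗ[K] K :=
    { toFun := fun u => ⟨ph ζ w (ratVec K P (pr u)) / μ, hratio _ (hpr0 u)⟩
      map_add' := fun u v => Subtype.ext (by
        show ph ζ w (ratVec K P (pr (u + v))) / μ = _ + _
        rw [show pr (u + v) = pr u + pr v by simp [hpr, add_smul]; abel, ratVec_add, ph_add_right, add_div])
      map_smul' := fun a u => Subtype.ext (by
        show ph ζ w (ratVec K P (pr (a • u))) / μ = (a : F) * _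
        rw [show pr (a • u) = a • pr u by simp [hpr, smul_sub, smul_smul], ratVec_smul, ph_smul_right, mul_div_assoc]) }
  obtain ⟨b₀, hb₀⟩ := (ratForm_good hP hζ).exists_vec L
  have hL : ∀ u, ph ζ (ratVec K P b₀) (ratVec K P u) * μ = ph ζ w (ratVec K P (pr u)) := fun u => by
    rw [← coe_ratForm hP, hb₀ u]
    show ph ζ w (ratVec K P (pr u)) / μ * μ = _
    rw [div_mul_cancel₀ _ hμ0]
  have e : w = μ • ratVec K P b₀ + ν • ratVec K P t :=
    sub_eq_zero.mp (eq_zero_of_ph_ratVec (K := K) (P := P) hζ fun u => by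
      have h1 := hL u
      rw [hpr, ratVec_sub, ratVec_smul, ph_sub_right, ph_smul_right, coe_ratForm] at h1
      rw [ph_sub_right, ph_add_right, ph_smul_right, ph_smul_right, ph_comm (ratVec K P u) w,
        ph_comm (ratVec K P u) (ratVec K P b₀), hν, ph_comm (ratVec K P r₀) w]
      linear_combination h1)
  have hb₀t : ratForm hP b₀ t = 0 := by
    apply Subtype.ext
    have h1 := hL t
    rw [show pr t = t by simp [hpr, ratForm_self], ph_comm w, htw, neg_zero] at h1
    rw [coe_ratForm]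
    simpa [hμ0] using h1
  have hbu : ph ζ (ratVec K P b₀) (ratVec K P u₁) = 1 := by
    have h1 := hL u₁
    rw [show pr u₁ = u₁ by simp [hpr, ratForm_comm hP u₁ t, hu₁], ← hμ] at h1
    exact mul_right_cancel₀ hμ0 (by rw [h1, one_mul])
  have hbt : LinearIndependent K ![b₀, t] := by
    refine linearIndependent_two (fun e0 => ?_) fun hmem => ?_
    · rw [e0, ratVec_zero, ph_zero_left] at hbu
      exact zero_ne_one hbu
    · obtain ⟨k, rfl⟩ := Submodule.mem_span_singleton.mp hmem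
      have h1 : ph ζ ((k : F) • ratVec K P b₀) (ratVec K P u₁) = 0 := by
        rw [← ratVec_smul]; exact ph_eq_zero_of_ratForm hP hu₁
      rw [ph_smul_left, hbu, mul_one] at h1
      exact ht (by rw [show k = 0 from Subtype.ext h1, zero_smul])
  obtain ⟨t₂, ht₂0, ht₂⟩ := exists_perp_notMem hP hζ ![b₀, t] (Submodule.span K {b₀, t}) (by
    have h1 : Module.finrank K (Submodule.span K ({b₀, t} : Set Ks)) ≤ 2 := by
      have h := finrank_range_le_card (R := K) (![b₀, t] : Fin 2 → Ks)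
      simp only [Matrix.range_cons, Matrix.range_empty, Set.union_empty, ← Set.insert_eq, Fintype.card_fin] at h
      exact h
    omega)
  have hli3 := linearIndependent_three hbt ht₂
  obtain ⟨s, hs⟩ := exists_ratForm_eq hP hζ hli3 ![0, 0, 1]
  obtain ⟨s', hs'⟩ := exists_ratForm_eq hP hζ hli3 ![0, 1, 0]
  have ht₂ne : t₂ ≠ 0 := fun e0 => ht₂ (e0 ▸ zero_mem _)
  have hA : ph ζ (ratVec K P t₂) w = 0 := by
    have h3 : ratForm hP b₀ t₂ = 0 := ht₂0 0
    have h4 : ratForm hP t t₂ = 0 := ht₂0 1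
    have h1 : ph ζ (ratVec K P t₂) (ratVec K P b₀) = 0 := by
      rw [ph_comm, ph_eq_zero_of_ratForm hP h3, neg_zero]
    have h2 : ph ζ (ratVec K P t₂) (ratVec K P t) = 0 := by
      rw [ph_comm, ph_eq_zero_of_ratForm hP h4, neg_zero]
    rw [e, ph_add_right, ph_smul_right, ph_smul_right, h1, h2]; simp
  have hkey := hK t₂ ht₂ne hA s s' (hs 0) (hs' 0)
  have k1 : ratForm hP b₀ s = 0 := hs 1
  have k2 : ratForm hP t s = 1 := hs 2
  have k3 : ratForm hP b₀ s' = 1 := hs' 1
  have k4 : ratForm hP t s' = 0 := hs' 2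
  rw [e, ph_add_left, ph_add_left, ph_smul_left, ph_smul_left, ph_smul_left, ph_smul_left,
    ph_eq_zero_of_ratForm hP k1, ph_eq_one_of_ratForm hP k2,
    ph_eq_one_of_ratForm hP k3, ph_eq_zero_of_ratForm hP k4] at hkey
  simp only [mul_zero, mul_one, zero_add, add_zero] at hkey
  have hνμ : ν / μ ∈ K := by
    rw [show ν / μ = ν * μ / (μ * μ) by field_simp]
    exact K.div_mem hkey hμμ
  refine hirr ⟨μ, b₀ + (⟨ν / μ, hνμ⟩ : K) • t, hμμ, ?_⟩
  rw [ratVec_add, ratVec_smul, smul_add, smul_smul, e]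
  simp [mul_div_cancel₀ _ hμ0]

include hζ hm hP hHM hMS in
omit [Finite F] in
theorem exists_perp_centre {w : Vs} (hw : Centre K ζ M w)
    (hfull : ∀ u : Ks, u ≠ 0 → ph ζ (ratVec K P u) w ≠ 0) :
    ∃ z, Centre K ζ M z ∧ ¬ IsRatCentre K P z ∧ ∃ t : Ks, t ≠ 0 ∧ ph ζ (ratVec K P t) z = 0 := by
  obtain ⟨π₁, hπ₁⟩ := exists_nonzero (K := K) hm
  obtain ⟨r₀, hr₀⟩ := exists_ratForm_eq hP hζ (u := ![π₁])
    (linearIndependent_unique_iff.mpr (by simpa using hπ₁)) ![1]
  have hspan : ∀ a b : Ks, Module.finrank K (Submodule.span K ({a, b} : Set Ks)) ≤ 2 := fun a b => by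
    have h := finrank_range_le_card (R := K) (![a, b] : Fin 2 → Ks)
    simp only [Matrix.range_cons, Matrix.range_empty, Set.union_empty, ← Set.insert_eq, Fintype.card_fin] at h
    exact h
  obtain ⟨z₀, hz₀0, hz₀⟩ := exists_perp_notMem hP hζ ![π₁] (Submodule.span K {π₁, r₀})
    (by have := hspan π₁ r₀; omega)
  set π₂ := (-2 : K) • r₀ + z₀ with hπ₂
  have h12 : ratForm hP π₁ π₂ = -2 := by
    rw [hπ₂, map_add, map_smul, show ratForm hP π₁ r₀ = 1 from hr₀ 0, show ratForm hP π₁ z₀ = 0 from hz₀0 0]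
    simp
  have hliπ : LinearIndependent K ![π₁, π₂] := linearIndependent_two hπ₁ fun hmem => hz₀ (by
    have h1 : z₀ = π₂ + (2 : K) • r₀ := by rw [hπ₂]; module
    rw [h1]
    exact add_mem (Submodule.span_mono (by simp) hmem) (Submodule.smul_mem _ _ (Submodule.subset_span (by simp))))
  set p₁ := ratVec K P π₁ with hp₁
  set p₂ := ratVec K P π₂ with hp₂
  have hp12 : ph ζ p₁ p₂ = -2 := by rw [hp₁, hp₂, ← coe_ratForm hP, h12]; simp; rfl
  let L : Vs →ₗ[F] Vs :=
    { toFun := fun x => x + ph ζ x p₂ • p₁ - ph ζ x p₁ • p₂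
      map_add' := fun x y => by simp only [ph_add_left, add_smul]; abel
      map_smul' := fun a x => by simp only [ph_smul_left, mul_smul, smul_add, smul_sub, RingHom.id_apply] }
  have hpres : ∀ x y, Cfsg.sympForm m F (LinearMap.toMatrix' L *ᵥ x) (LinearMap.toMatrix' L *ᵥ y)
      = Cfsg.sympForm m F x y := by
    intro x y
    rw [LinearMap.toMatrix'_mulVec, LinearMap.toMatrix'_mulVec]
    apply mul_left_cancel₀ hζ
    show ph ζ (x + ph ζ x p₂ • p₁ - ph ζ x p₁ • p₂) (y + ph ζ y p₂ • p₁ - ph ζ y p₁ • p₂) = ph ζ x y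
    simp only [ph_add_left, ph_add_right, ph_sub_left, ph_sub_right, ph_smul_left, ph_smul_right, ph_self,
      ph_comm p₁ y, ph_comm p₂ y, ph_comm p₂ p₁, hp12]
    ring
  set h : GL (Fin m ⊕ Fin m) F := (Submonoid.subtype (Matrix.symplecticGroup (Fin m) F)).toHomUnits
    ⟨_, mem_symplecticGroup_iff_preserves.mpr hpres⟩
  have hh : ∀ x, act h x = x + ph ζ x p₂ • p₁ - ph ζ x p₁ • p₂ := fun x => LinearMap.toMatrix'_mulVec L x
  have hhH : h ∈ Cfsg.Geo.subfieldSubgroup K P ⊓ Cfsg.spGL m F := by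
    refine ⟨mem_subfield_of_maps one_ne_zero fun u => ⟨u + ratForm hP u π₂ • π₁ - ratForm hP u π₁ • π₂, ?_⟩, hpres⟩
    rw [hh, one_smul, ratVec_sub, ratVec_add, ratVec_smul, ratVec_smul]
    rfl
  have hw1 := hw 1
  have hwm := hw (-1)
  push_cast at hw1 hwm
  have hX1 := M.mul_mem (M.mul_mem (hHM hhH) hw1) (M.inv_mem (hHM hhH))
  rw [conj_Tz hhH.2] at hX1
  have hX := M.mul_mem hX1 hwm
  have hwhw : ph ζ w (act h w) = 0 := by
    rw [hh, ph_sub_right, ph_add_right, ph_smul_right, ph_smul_right, ph_self]; ring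
  -- the new centre attached to `s`
  have key : ∀ s : Ks, ratForm hP π₁ s = 0 → ratForm hP π₂ s = 0 → Centre K ζ M
      (ratVec K P s + ph ζ (ratVec K P s) w • (ph ζ w p₂ • p₁ - ph ζ w p₁ • p₂)) := by
    intro s h1 h2
    have hs1 : ph ζ (ratVec K P s) p₁ = 0 := by rw [ph_comm, hp₁, ph_eq_zero_of_ratForm hP h1, neg_zero]
    have hs2 : ph ζ (ratVec K P s) p₂ = 0 := by rw [ph_comm, hp₂, ph_eq_zero_of_ratForm hP h2, neg_zero]
    have e : act (Tz ζ (act h w) (1 : F) * Tz ζ w (-1 : F)) (ratVec K P s)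
        = ratVec K P s + ph ζ (ratVec K P s) w • (ph ζ w p₂ • p₁ - ph ζ w p₁ • p₂) := by
      have hσ : ph ζ (ratVec K P s) (act h w) = ph ζ (ratVec K P s) w := by
        rw [hh, ph_sub_right, ph_add_right, ph_smul_right, ph_smul_right, hs1, hs2]; simp
      rw [← mulVec_mulVec, Tz_mulVec, Tz_mulVec]
      simp only [ph_add_left, ph_smul_left, hwhw, hσ, mul_zero, add_zero]
      rw [hh]
      module
    have h3 := centre_map hMS hX (centre_ratVec hP hHM s)
    rw [Units.val_mul, e] at h3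
    exact h3
  obtain ⟨s₁, hs₁0, hs₁⟩ := exists_perp_notMem hP hζ ![π₁, π₂] (Submodule.span K {π₁, π₂})
    (by have := hspan π₁ π₂; omega)
  obtain ⟨s₂, hs₂0, hs₂⟩ := exists_perp_notMem hP hζ ![π₁, π₂] (Submodule.span K {π₁, π₂} ⊔ Submodule.span K {s₁}) (by
    have h1 := hspan π₁ π₂
    have h2 := Submodule.finrank_add_le_finrank_add_finrank (Submodule.span K ({π₁, π₂} : Set Ks))
      (Submodule.span K ({s₁} : Set Ks))
    rw [finrank_span_singleton (fun e => hs₁ (by rw [e]; exact zero_mem _))] at h2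
    omega)
  by_contra hno
  push Not at hno
  have hratio : ∀ s : Ks, (∀ i, ratForm hP (![π₁, π₂] i) s = 0) → s ∉ Submodule.span K {π₁, π₂} →
      ph ζ (ratVec K P s) w * ph ζ w p₂ ∈ K := by
    intro s hs0 hs
    have hs1 : ratForm hP π₁ s = 0 := hs0 0
    have hs2 : ratForm hP π₂ s = 0 := hs0 1
    set z := ratVec K P s + ph ζ (ratVec K P s) w • (ph ζ w p₂ • p₁ - ph ζ w p₁ • p₂) with hz
    obtain ⟨t, ht0, ht⟩ := exists_perp_notMem hP hζ ![s, π₁, π₂] ⊥ (by rw [finrank_bot]; omega)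
    have j0 : ratForm hP s t = 0 := ht0 0
    have j1 : ratForm hP π₁ t = 0 := ht0 1
    have j2 : ratForm hP π₂ t = 0 := ht0 2
    have htz : ph ζ (ratVec K P t) z = 0 := by
      rw [hz, hp₁, hp₂, ph_add_right, ph_smul_right, ph_sub_right, ph_smul_right, ph_smul_right,
        ph_comm (ratVec K P t) (ratVec K P s), ph_eq_zero_of_ratForm hP j0,
        ph_comm (ratVec K P t) (ratVec K P π₁), ph_eq_zero_of_ratForm hP j1,
        ph_comm (ratVec K P t) (ratVec K P π₂), ph_eq_zero_of_ratForm hP j2]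
      simp
    obtain ⟨l, b, -, hlb⟩ : IsRatCentre K P z := by
      by_contra hirr
      exact hno z (key s hs1 hs2) hirr t (fun e => ht (by rw [e]; exact zero_mem _)) htz
    have hli3 := linearIndependent_three hliπ hs
    obtain ⟨r, hr⟩ := exists_ratForm_eq hP hζ hli3 ![1, 0, 0]
    obtain ⟨r', hr'⟩ := exists_ratForm_eq hP hζ hli3 ![0, 1, 0]
    have k0 : ratForm hP s r = 1 := hr 0
    have k1 : ratForm hP π₁ r = 0 := hr 1
    have k2 : ratForm hP π₂ r = 0 := hr 2
    have k0' : ratForm hP s r' = 0 := hr' 0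
    have k1' : ratForm hP π₁ r' = 1 := hr' 1
    have k2' : ratForm hP π₂ r' = 0 := hr' 2
    have h1 := congrArg (fun x => ph ζ x (ratVec K P r)) hlb
    rw [hz, hp₁, hp₂] at h1
    simp only [ph_add_left, ph_sub_left, ph_smul_left,
      ph_eq_one_of_ratForm hP k0, ph_eq_zero_of_ratForm hP k1,
      ph_eq_zero_of_ratForm hP k2, mul_zero, sub_zero, add_zero] at h1
    have hl : l ∈ K := by
      have : l = (ph ζ (ratVec K P b) (ratVec K P r))⁻¹ := eq_inv_of_mul_eq_one_left h1.symm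
      rw [this]
      exact K.inv_mem (hP b r)
    have h2 := congrArg (fun x => ph ζ x (ratVec K P r')) hlb
    rw [hz, hp₁, hp₂] at h2
    simp only [ph_add_left, ph_sub_left, ph_smul_left,
      ph_eq_zero_of_ratForm hP k0', ph_eq_one_of_ratForm hP k1',
      ph_eq_zero_of_ratForm hP k2', mul_zero, mul_one, sub_zero, zero_add] at h2
    rw [hp₂, h2]
    exact K.mul_mem hl (hP b r')
  have hμ2 : ph ζ w p₂ ≠ 0 := fun e => by
    refine hfull π₂ (fun e0 => ?_) (by rw [← hp₂, ph_comm, e, neg_zero])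
    rw [LinearIndependent.pair_iff] at hliπ
    exact one_ne_zero (hliπ 0 1 (by simp [e0])).2
  have h1 := hratio s₁ hs₁0 hs₁
  have h2 := hratio s₂ hs₂0 fun h => hs₂ (Submodule.mem_sup_left h)
  have hσ2 : ph ζ (ratVec K P s₂) w ≠ 0 := hfull s₂ fun e => hs₂ (e ▸ zero_mem _)
  set k : K := ⟨ph ζ (ratVec K P s₁) w / ph ζ (ratVec K P s₂) w, by
    rw [← mul_div_mul_right _ _ hμ2]; exact K.div_mem h1 h2⟩ with hk
  have hne : s₁ - k • s₂ ≠ 0 := fun e => by
    rw [sub_eq_zero] at e
    have hk0 : k ≠ 0 := fun e0 => hs₁ (by rw [e, e0, zero_smul]; exact zero_mem _)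
    exact hs₂ (Submodule.mem_sup_right (Submodule.mem_span_singleton.mpr
      ⟨k⁻¹, by rw [e, inv_smul_smul₀ hk0]⟩))
  refine hfull _ hne ?_
  rw [ratVec_sub, ratVec_smul, ph_sub_left, ph_smul_left, hk, div_mul_cancel₀ _ hσ2, sub_self]

include hζ hm hP in
/-- The subfield subgroup is maximal. -/
theorem isMaximalIn_subfield (r : ℕ) (hr : r.Prime) (hcard : Nat.card F = Nat.card K ^ r) :
    Cfsg.Geo.IsMaximalIn (Cfsg.spGL m F) (Cfsg.Geo.subfieldSubgroup K P ⊓ Cfsg.spGL m F) := by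
  refine ⟨lt_of_le_of_ne inf_le_right fun heq => ?_, fun M hHM hMS => ?_⟩
  · obtain ⟨c, hc⟩ : ∃ c, c ∉ K := by
      by_contra hall
      push Not at hall
      have e : Nat.card K = Nat.card F := Nat.card_congr (Equiv.subtypeUnivEquiv hall)
      rw [e] at hcard
      have h1 : (1 : ℕ) < Nat.card F := Finite.one_lt_card
      have h2 := hcard.symm.trans (pow_one _).symm
      exact hr.one_lt.ne' (Nat.pow_right_injective h1 h2)
    obtain ⟨b, hb⟩ := exists_nonzero (K := K) hm
    obtain ⟨x, hx⟩ := exists_ratForm_eq hP hζ (u := ![b]) (linearIndependent_unique_iff.mpr (by simpa using hb)) ![-1]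
    have hxb : ratForm hP x b = 1 := by rw [ratForm_comm, show ratForm hP b x = -1 from hx 0, neg_neg]
    obtain ⟨l, hl0, hl⟩ := exists_scale_of_mem (K := K) (P := P) (heq.ge (Tz_mem (ζ := ζ) (ratVec K P b) c)).1
    obtain ⟨v₁, hv₁⟩ := hl b
    rw [Tz_mulVec, ph_self, mul_zero, zero_smul, add_zero] at hv₁
    obtain ⟨v₂, hv₂⟩ := hl x
    rw [Tz_mulVec, ph_eq_one_of_ratForm hP hxb, mul_one] at hv₂
    obtain ⟨r₀, hr₀⟩ := exists_ratForm_eq hP hζ (u := ![b]) (linearIndependent_unique_iff.mpr (by simpa using hb)) ![1]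
    have hbr : ph ζ (ratVec K P b) (ratVec K P r₀) = 1 := ph_eq_one_of_ratForm hP (hr₀ 0)
    have h1 := congrArg (fun y => ph ζ y (ratVec K P r₀)) hv₁
    simp only [hbr, ph_smul_left] at h1
    have hlK : l ∈ K := by
      rw [eq_inv_of_mul_eq_one_left h1.symm]
      exact K.inv_mem (hP v₁ r₀)
    have h2 := congrArg (fun y => ph ζ y (ratVec K P r₀)) hv₂
    simp only [ph_add_left, ph_smul_left, hbr, mul_one] at h2
    apply hc
    rw [show c = l * ph ζ (ratVec K P v₂) (ratVec K P r₀) - ph ζ (ratVec K P x) (ratVec K P r₀) by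
      linear_combination h2]
    exact K.sub_mem (K.mul_mem hlK (hP v₂ r₀)) (hP x r₀)
  by_cases hM : M ≤ Cfsg.Geo.subfieldSubgroup K P
  · exact Or.inl (le_antisymm (le_inf hM hMS) hHM)
  right
  obtain ⟨g, hgM, hg⟩ := SetLike.not_le_iff_exists.mp hM
  obtain ⟨u, hu⟩ : ∃ u : Ks, ¬ IsRatCentre K P (act g (ratVec K P u)) := by
    by_contra hall
    push Not at hall
    choose l v hl2 hlv using hall
    have hsame : ∀ u u' : Ks, ratForm hP u u' ≠ 0 → l u / l u' ∈ K ∧ l u ≠ 0 ∧ l u' ≠ 0 := by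
      intro u u' hne
      have h1 : ph ζ (ratVec K P u) (ratVec K P u') ≠ 0 := fun e => hne (Subtype.ext (by rw [coe_ratForm, e]; rfl))
      rw [← ph_apply_sp (hMS hgM), hlv, hlv, ph_smul_left, ph_smul_right] at h1
      have hl0 : l u ≠ 0 := left_ne_zero_of_mul h1
      have hl0' : l u' ≠ 0 := left_ne_zero_of_mul (right_ne_zero_of_mul h1)
      refine ⟨?_, hl0, hl0'⟩
      have h2 : ph ζ (ratVec K P u) (ratVec K P u') ∈ K := hP u u'
      rw [← ph_apply_sp (hMS hgM), hlv, hlv, ph_smul_left, ph_smul_right, ← mul_assoc] at h2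
      have h3 : l u * l u' ∈ K := by
        have h4 := K.div_mem h2 (hP (v u) (v u'))
        rwa [mul_div_cancel_right₀ _ (right_ne_zero_of_mul (right_ne_zero_of_mul h1))] at h4
      rw [show l u / l u' = l u * l u' / (l u' * l u') by field_simp]
      exact K.div_mem h3 (hl2 u')
    obtain ⟨e₀, he₀⟩ := exists_nonzero (K := K) hm
    have hall : ∀ u : Ks, u ≠ 0 → l u / l e₀ ∈ K ∧ l u ≠ 0 ∧ l e₀ ≠ 0 := by
      intro u hu
      obtain ⟨r₁, hr₁⟩ := exists_ratForm_eq hP hζ (u := ![u]) (linearIndependent_unique_iff.mpr (by simpa using hu)) ![1]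
      obtain ⟨r₂, hr₂⟩ := exists_ratForm_eq hP hζ (u := ![e₀]) (linearIndependent_unique_iff.mpr (by simpa using he₀)) ![1]
      obtain ⟨x, hx1, hx2⟩ : ∃ x, ratForm hP u x ≠ 0 ∧ ratForm hP e₀ x ≠ 0 := by
        have hu1 : ratForm hP u r₁ ≠ 0 := by rw [show ratForm hP u r₁ = 1 from hr₁ 0]; exact one_ne_zero
        have he1 : ratForm hP e₀ r₂ ≠ 0 := by rw [show ratForm hP e₀ r₂ = 1 from hr₂ 0]; exact one_ne_zero
        by_cases h1 : ratForm hP e₀ r₁ = 0
        · by_cases h2 : ratForm hP u r₂ = 0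
          · exact ⟨r₁ + r₂, by rwa [map_add, h2, add_zero], by rwa [map_add, h1, zero_add]⟩
          · exact ⟨r₂, h2, he1⟩
        · exact ⟨r₁, hu1, h1⟩
      obtain ⟨a1, a2, a3⟩ := hsame u x hx1
      obtain ⟨b1, b2, -⟩ := hsame e₀ x hx2
      refine ⟨?_, a2, b2⟩
      rw [show l u / l e₀ = (l u / l x) / (l e₀ / l x) by field_simp]
      exact K.div_mem a1 b1
    refine hg (mem_subfield_of_maps (hall e₀ he₀).2.1 fun u => ?_)
    by_cases hu : u = 0
    · exact ⟨0, by simp [hu, ratVec_zero]⟩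
    · refine ⟨(⟨l u / l e₀, (hall u hu).1⟩ : K) • v u, ?_⟩
      rw [hlv, ratVec_smul, smul_smul, mul_div_cancel₀ _ (hall u hu).2.2]
  have hwc : Centre K ζ M (act g (ratVec K P u)) := centre_map hMS hgM (centre_ratVec hP hHM u)
  obtain ⟨z, hz, hzirr, t, ht, htz⟩ : ∃ z, Centre K ζ M z ∧ ¬ IsRatCentre K P z ∧
      ∃ t : Ks, t ≠ 0 ∧ ph ζ (ratVec K P t) z = 0 := by
    by_cases hperp : ∃ t : Ks, t ≠ 0 ∧ ph ζ (ratVec K P t) (act g (ratVec K P u)) = 0
    · exact ⟨_, hwc, hu, hperp⟩
    · push Not at hperp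
      exact exists_perp_centre hζ hm hP hHM hMS hwc hperp
  obtain ⟨c, hc, hgood⟩ := exists_good_notMem hζ hm hP hHM hMS hz hzirr ht htz
  exact eq_spGL_of_good hζ hm hP hHM hMS (good_all hζ hm hP hHM hMS r hr hcard hc hgood)

end Cfsg.Agent.Lib.SubfieldMax
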