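import Cfsg.Agent.Lib.SubfieldMax.Rational
import Cfsg.Agent.Lib.SympMax.Basic
import Cfsg.Agent.Lib.Forms.Witt

/-!
Tools for the subfield subgroup of a symplectic group: scaled transvections, rational root elements and
transitivity of the rational symplectic group.
-/

set_option autoImplicit false

namespace Cfsg.Agent.Lib.SubfieldMax

open Matrix Cfsg.Agent.Lib.Forms Cfsg.Agent.Lib

section Scaled

variable {F : Type*} [Field F] {m : ℕ}

local notation "Vs" => (Fin m ⊕ Fin m → F)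
local notation "GLs" => GL (Fin m ⊕ Fin m) F
local notation "f" => Cfsg.sympForm m F

/-- The scaled form. -/
noncomputable def ph (ζ : F) (x y : Fin m ⊕ Fin m → F) : F := ζ * Cfsg.sympForm m F x y

variable {ζ : F}

theorem ph_add_left (x y z : Vs) : ph ζ (x + y) z = ph ζ x z + ph ζ y z := by
  rw [ph, SympMax.form_add_left, mul_add]; rfl

theorem ph_add_right (x y z : Vs) : ph ζ x (y + z) = ph ζ x y + ph ζ x z := by
  rw [ph, SympMax.form_add_right, mul_add]; rfl

theorem ph_smul_left (c : F) (x y : Vs) : ph ζ (c • x) y = c * ph ζ x y := by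
  rw [ph, ph, SympMax.form_smul_left]; ring

theorem ph_smul_right (c : F) (x y : Vs) : ph ζ x (c • y) = c * ph ζ x y := by
  rw [ph, ph, SympMax.form_smul_right]; ring

theorem ph_sub_left (x y z : Vs) : ph ζ (x - y) z = ph ζ x z - ph ζ y z := by
  rw [eq_sub_iff_add_eq, ← ph_add_left, sub_add_cancel]

theorem ph_sub_right (x y z : Vs) : ph ζ x (y - z) = ph ζ x y - ph ζ x z := by
  rw [eq_sub_iff_add_eq, ← ph_add_right, sub_add_cancel]

theorem ph_neg_left (x y : Vs) : ph ζ (-x) y = - ph ζ x y := by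
  rw [← neg_one_smul F x, ph_smul_left, neg_one_mul]

theorem ph_self (x : Vs) : ph ζ x x = 0 := by rw [ph, Forms.sympForm_self, mul_zero]

theorem ph_comm (x y : Vs) : ph ζ x y = - ph ζ y x := by rw [ph, ph, Forms.sympForm_comm x y, mul_neg]

theorem ph_zero_left (y : Vs) : ph ζ (0 : Vs) y = 0 := by
  rw [← zero_smul F (0 : Vs), ph_smul_left, zero_mul]

theorem ph_apply_sp {g : GLs} (hg : g ∈ Cfsg.spGL m F) (x y : Vs) :
    ph ζ ((g : Matrix (Fin m ⊕ Fin m) (Fin m ⊕ Fin m) F) *ᵥ x)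
      ((g : Matrix (Fin m ⊕ Fin m) (Fin m ⊕ Fin m) F) *ᵥ y) = ph ζ x y := by
  rw [ph, SympMax.apply_sp hg, ph]

/-- The transvection `x ↦ x + c φ(x, v) v` for the scaled form `φ`. -/
noncomputable def Tz (ζ : F) (v : Fin m ⊕ Fin m → F) (c : F) : GL (Fin m ⊕ Fin m) F :=
  SympMax.T v (c * ζ)

theorem Tz_mulVec (v x : Vs) (c : F) :
    (Tz ζ v c : Matrix (Fin m ⊕ Fin m) (Fin m ⊕ Fin m) F) *ᵥ x = x + (c * ph ζ x v) • v := by
  rw [Tz, SympMax.T_mulVec, ph, mul_assoc]

theorem Tz_mem (v : Vs) (c : F) : Tz ζ v c ∈ Cfsg.spGL m F := SympMax.T_mem _ _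

theorem conj_Tz {g : GLs} (hg : g ∈ Cfsg.spGL m F) (v : Vs) (c : F) :
    g * Tz ζ v c * g⁻¹ = Tz ζ ((g : Matrix (Fin m ⊕ Fin m) (Fin m ⊕ Fin m) F) *ᵥ v) c :=
  SympMax.conj_T hg v _

theorem glExt {g h : GLs} (e : ∀ x, (g : Matrix (Fin m ⊕ Fin m) (Fin m ⊕ Fin m) F) *ᵥ x =
    (h : Matrix (Fin m ⊕ Fin m) (Fin m ⊕ Fin m) F) *ᵥ x) : g = h :=
  Units.ext (Matrix.ext_iff_mulVec.mpr e)

theorem Tz_smul (v : Vs) (a c : F) : Tz ζ (a • v) c = Tz ζ v (a * a * c) := by
  rw [Tz, Tz, SympMax.T_smul, ← mul_assoc]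

theorem Tz_add (v : Vs) (c d : F) : Tz ζ v (c + d) = Tz ζ v c * Tz ζ v d := by
  refine glExt fun x => ?_
  simp only [Units.val_mul, ← mulVec_mulVec, Tz_mulVec, ph_add_left, ph_smul_left, ph_self, mul_zero, add_zero]
  module

theorem Tz_zero (v : Vs) : Tz ζ v (0 : F) = 1 :=
  glExt fun x => by simp [Tz_mulVec]

theorem root_of_Tz (hζ : ζ ≠ 0) {M : Subgroup GLs} {v : Vs} (h : ∀ c, Tz ζ v c ∈ M) :
    v ∈ SympMax.root M := fun c => by
  have h1 := h (c / ζ)
  rwa [Tz, div_mul_cancel₀ _ hζ] at h1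

/-- The root element `x ↦ x + c φ(x, a) b + c φ(x, b) a`, for `φ(a, b) = 0`. -/
noncomputable def Ez (ζ : F) (a b : Fin m ⊕ Fin m → F) (c : F) : GL (Fin m ⊕ Fin m) F :=
  Tz ζ (a + b) c * Tz ζ a (-c) * Tz ζ b (-c)

theorem Ez_mem (a b : Vs) (c : F) : Ez ζ a b c ∈ Cfsg.spGL m F :=
  mul_mem (mul_mem (Tz_mem _ _) (Tz_mem _ _)) (Tz_mem _ _)

theorem conj_Ez {g : GLs} (hg : g ∈ Cfsg.spGL m F) (a b : Vs) (c : F) :
    g * Ez ζ a b c * g⁻¹ = Ez ζ ((g : Matrix (Fin m ⊕ Fin m) (Fin m ⊕ Fin m) F) *ᵥ a)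
      ((g : Matrix (Fin m ⊕ Fin m) (Fin m ⊕ Fin m) F) *ᵥ b) c := by
  rw [Ez, conj_mul.symm, conj_mul.symm, conj_Tz hg, conj_Tz hg, conj_Tz hg, mulVec_add, Ez]

theorem Ez_mulVec {a b : Vs} (hab : ph ζ a b = 0) (c : F) (x : Vs) :
    (Ez ζ a b c : Matrix (Fin m ⊕ Fin m) (Fin m ⊕ Fin m) F) *ᵥ x
      = x + (c * ph ζ x a) • b + (c * ph ζ x b) • a := by
  have hba : ph ζ b a = 0 := by rw [ph_comm, hab, neg_zero]
  simp only [Ez, Units.val_mul, ← mulVec_mulVec, Tz_mulVec, ph_add_left, ph_add_right, ph_smul_left,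
    ph_self, hab, hba, mul_zero, add_zero]
  module

theorem Ez_add {a b : Vs} (hab : ph ζ a b = 0) (c d : F) :
    Ez ζ a b c * Ez ζ a b d = Ez ζ a b (c + d) := by
  have hba : ph ζ b a = 0 := by rw [ph_comm, hab, neg_zero]
  refine glExt fun x => ?_
  simp only [Units.val_mul, ← mulVec_mulVec, Ez_mulVec hab, ph_add_left, ph_smul_left, ph_self, hab, hba,
    mul_zero, add_zero]
  module

theorem Ez_split {u v b : Vs} (huv : ph ζ u v = 0) (hub : ph ζ u b = 0) (hvb : ph ζ v b = 0) (c d : F) :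
    Ez ζ (u + c • v) b d = Ez ζ u b d * Ez ζ v b (d * c) := by
  have hvu : ph ζ v u = 0 := by rw [ph_comm, huv, neg_zero]
  have hbu : ph ζ b u = 0 := by rw [ph_comm, hub, neg_zero]
  have h : ph ζ (u + c • v) b = 0 := by rw [ph_add_left, ph_smul_left, hub, hvb, mul_zero, add_zero]
  refine glExt fun x => ?_
  simp only [Units.val_mul, ← mulVec_mulVec, Ez_mulVec h, Ez_mulVec hub, Ez_mulVec hvb, ph_add_left,
    ph_add_right, ph_smul_left, ph_smul_right, ph_self, hub, hvb, hvu, hbu, mul_zero, add_zero]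
  module

theorem Ez_comb {b t t' : Vs} (hbt : ph ζ b t = 0) (hbt' : ph ζ b t' = 0) (c : F) :
    Ez ζ b t c * Ez ζ b t' c = Ez ζ b (t + t') c * Tz ζ b (c * c * ph ζ t' t) := by
  have htb : ph ζ t b = 0 := by rw [ph_comm, hbt, neg_zero]
  have htb' : ph ζ t' b = 0 := by rw [ph_comm, hbt', neg_zero]
  have h : ph ζ b (t + t') = 0 := by rw [ph_add_right, hbt, hbt', add_zero]
  refine glExt fun x => ?_
  simp only [Units.val_mul, ← mulVec_mulVec, Ez_mulVec h, Ez_mulVec hbt, Ez_mulVec hbt', Tz_mulVec, ph_add_left,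
    ph_add_right, ph_smul_left, ph_self, hbt, hbt', htb', mul_zero, add_zero]
  module

end Scaled

section Rational

variable {F : Type*} [Field F] {m : ℕ} {K : Subfield F} {ζ : F} {P : GL (Fin m ⊕ Fin m) F}

/-- The rational coordinates. -/
local notation "Ks" => (Fin m ⊕ Fin m → K)

variable (hP : ∀ u v : Fin m ⊕ Fin m → K, ph ζ (ratVec K P u) (ratVec K P v) ∈ K)

/-- The scaled form on rational coordinates. -/
noncomputable def ratForm : LinearMap.BilinForm K (Fin m ⊕ Fin m → K) :=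
  LinearMap.mk₂ K (fun u v => (⟨ph ζ (ratVec K P u) (ratVec K P v), hP u v⟩ : K))
    (fun u v w => Subtype.ext (by
      show ph ζ (ratVec K P (u + v)) _ = _
      rw [ratVec_add, ph_add_left]; rfl))
    (fun c u w => Subtype.ext (by
      show ph ζ (ratVec K P (c • u)) _ = _
      rw [ratVec_smul, ph_smul_left]; rfl))
    (fun u v w => Subtype.ext (by
      show ph ζ _ (ratVec K P (v + w)) = _
      rw [ratVec_add, ph_add_right]; rfl))
    (fun c u w => Subtype.ext (by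
      show ph ζ _ (ratVec K P (c • w)) = _
      rw [ratVec_smul, ph_smul_right]; rfl))

theorem coe_ratForm (u v : Ks) : (ratForm hP u v : F) = ph ζ (ratVec K P u) (ratVec K P v) := rfl

theorem ph_eq_zero_of_ratForm {u v : Ks} (h : ratForm hP u v = 0) :
    ph ζ (ratVec K P u) (ratVec K P v) = 0 := by rw [← coe_ratForm hP, h]; rfl

theorem ph_eq_one_of_ratForm {u v : Ks} (h : ratForm hP u v = 1) :
    ph ζ (ratVec K P u) (ratVec K P v) = 1 := by rw [← coe_ratForm hP, h]; rfl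

theorem ratForm_self (u : Ks) : ratForm hP u u = 0 := Subtype.ext (ph_self _)

theorem ratForm_comm (u v : Ks) : ratForm hP u v = - ratForm hP v u := Subtype.ext (ph_comm _ _)

/-- A functional vanishing against all rational vectors vanishes. -/
theorem eq_zero_of_ph_ratVec (hζ : ζ ≠ 0) {w : Fin m ⊕ Fin m → F}
    (h : ∀ u : Ks, ph ζ (ratVec K P u) w = 0) : w = 0 := by
  by_contra hw
  obtain ⟨x, hx⟩ := SympMax.exists_form_ne hw
  have hL : ((LinearMap.applyₗ w).comp (sympBilin m F) : (Fin m ⊕ Fin m → F) →ₗ[F] F) = 0 :=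
    ext_ratVec (K := K) (P := P) fun u => by
      simpa [ph, hζ] using h u
  have h1 := LinearMap.congr_fun hL x
  simp only [LinearMap.comp_apply, LinearMap.applyₗ_apply_apply, sympBilin_apply, LinearMap.zero_apply] at h1
  rw [Forms.sympForm_comm, h1, neg_zero] at hx
  exact hx rfl

theorem ratForm_good (hζ : ζ ≠ 0) : IsGoodForm (σ := RingHom.id K) (ratForm hP) (-1) where
  eps_sq := by simp
  invol _ := rfl
  herm x y := by rw [RingHom.id_apply, neg_one_mul]; exact ratForm_comm hP y x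
  nondeg x hx := by
    rw [← ratVec_eq_zero (P := P)]
    refine eq_zero_of_ph_ratVec (K := K) (P := P) hζ fun u => ?_
    rw [ph_comm, ← coe_ratForm hP, hx u]
    simp
  trace a := ⟨0, by simp [ratForm_self]⟩

theorem exists_ratForm_eq (hζ : ζ ≠ 0) {k : ℕ} {u : Fin k → Ks} (hu : LinearIndependent K u)
    (c : Fin k → K) : ∃ r, ∀ i, ratForm hP (u i) r = c i := by
  obtain ⟨φ, hφ⟩ : ∃ φ : (Fin m ⊕ Fin m → K) →ₗ[K] K, ∀ i, φ (u i) = c i := by
    let b := Module.Basis.span hu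
    obtain ⟨φ, hφ⟩ := LinearMap.exists_extend (b.constr K c)
    refine ⟨φ, fun i => ?_⟩
    have h1 := LinearMap.congr_fun hφ (b i)
    rw [Module.Basis.constr_basis] at h1
    simpa [b] using h1
  obtain ⟨r, hr⟩ := (ratForm_good hP hζ).exists_vec φ
  exact ⟨-r, fun i => by rw [ratForm_comm, map_neg, LinearMap.neg_apply, neg_neg, hr, hφ]⟩

/-- An orthogonal vector outside a small subspace. -/
theorem exists_perp_notMem (hζ : ζ ≠ 0) {k : ℕ} (u : Fin k → Ks)
    (W : Submodule K Ks) (h : Module.finrank K W + k < m + m) :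
    ∃ z, (∀ i, ratForm hP (u i) z = 0) ∧ z ∉ W := by
  by_contra hno
  push Not at hno
  have h1 := (ratForm_good hP hζ).finrank_add_finrank_perp (Submodule.span K (Set.range u))
  have h2 : Module.finrank K (Submodule.span K (Set.range u)) ≤ k := by
    simpa [Set.finrank] using finrank_range_le_card (R := K) u
  have h3 := Submodule.finrank_mono (show perp (ratForm hP) (Submodule.span K (Set.range u)) ≤ W from
    fun z hz => hno z fun i => mem_perp_span.mp hz _ ⟨i, rfl⟩)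
  rw [Module.finrank_fintype_fun_eq_card] at h1
  simp at h1
  omega

theorem Tz_ratVec_mem (a : K) (u : Ks) (hP' : ∀ u v : Ks, ph ζ (ratVec K P u) (ratVec K P v) ∈ K) :
    Tz ζ (ratVec K P u) (a : F) ∈ Cfsg.Geo.subfieldSubgroup K P ⊓ Cfsg.spGL m F :=
  ⟨mem_subfield_of_maps one_ne_zero fun v => ⟨v + (a * ratForm hP' v u) • u, by
    rw [Tz_mulVec, one_smul, ratVec_add, ratVec_smul]; rfl⟩, Tz_mem _ _⟩

/-- The rational symplectic group is transitive on rational families with equal Gram matrices. -/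
theorem exists_rational_map (hζ : ζ ≠ 0) {k : ℕ} {v w : Fin k → Ks} (hv : LinearIndependent K v)
    (hw : LinearIndependent K w) (hg : ∀ i j, ratForm hP (v i) (v j) = ratForm hP (w i) (w j)) :
    ∃ h ∈ Cfsg.Geo.subfieldSubgroup K P ⊓ Cfsg.spGL m F, ∀ i,
      (h : Matrix (Fin m ⊕ Fin m) (Fin m ⊕ Fin m) F) *ᵥ ratVec K P (v i) = ratVec K P (w i) := by
  obtain ⟨g, hgp, hgv⟩ := (ratForm_good hP hζ).witt_family v w hv hw hg
  set A := (glEquiv (Fin m ⊕ Fin m) K).symm g
  set h := MulAut.conj P (Matrix.GeneralLinearGroup.map (K.subtype : K →+* F) A) with hh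
  have hact : ∀ u : Ks, (h : Matrix (Fin m ⊕ Fin m) (Fin m ⊕ Fin m) F) *ᵥ ratVec K P u = ratVec K P (g u) := by
    intro u
    rw [hh, MulAut.conj_apply, ratVec, ratVec, Units.val_mul, Units.val_mul, mulVec_mulVec,
      Units.inv_mul_cancel_right, ← mulVec_mulVec, ← glEquiv_symm_mulVec g u]
    congr 1
    funext i
    show ((A : Matrix (Fin m ⊕ Fin m) (Fin m ⊕ Fin m) K).map K.subtype *ᵥ fun i => K.subtype (u i)) i
      = K.subtype (((A : Matrix (Fin m ⊕ Fin m) (Fin m ⊕ Fin m) K) *ᵥ u) i)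
    rw [RingHom.map_mulVec]
    rfl
  refine ⟨h, ⟨⟨_, Subgroup.mem_sup_left ⟨A, rfl⟩, rfl⟩, fun x y => ?_⟩, fun i => by rw [hact, hgv]⟩
  show Cfsg.sympForm m F _ _ = Cfsg.sympForm m F x y
  have h2 : (sympBilin m F).compl₁₂ (Matrix.mulVecLin (h : Matrix (Fin m ⊕ Fin m) (Fin m ⊕ Fin m) F))
      (Matrix.mulVecLin (h : Matrix (Fin m ⊕ Fin m) (Fin m ⊕ Fin m) F)) = sympBilin m F := by
    refine ext_ratVec (K := K) (P := P) fun u => ext_ratVec (K := K) (P := P) fun v => ?_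
    have h3 := congrArg (Subtype.val : K → F) (hgp u v)
    rw [coe_ratForm, coe_ratForm, ← hact, ← hact] at h3
    simp only [LinearMap.compl₁₂_apply, mulVecLin_apply, sympBilin_apply]
    exact mul_left_cancel₀ hζ h3
  simpa using LinearMap.congr_fun (LinearMap.congr_fun h2 x) y

end Rational

end Cfsg.Agent.Lib.SubfieldMax
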